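import Mathlib
import Cfsg.Agent.Lib.Helper18.ReeHallStmt
import Cfsg.Agent.Lib.Helper93.ReeSpDIO

set_option autoImplicit false

/-! S1158 piece DIOP: the arithmetic of the class equation of the small Ree groups, with the
extra conclusion that both normalizer quotients have order `6`. -/

namespace Cfsg.Agent.Lib.Helper51.RHDIOP

open Cfsg.Agent.Lib.Helper42.ReeSpStmt

theorem core (q r ni nj xi xj : ℤ) (hq : 27 ≤ q) (hr0 : 0 ≤ r) (hr : r * r = 3 * q)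
    (hni : ni = 1 ∨ ni = 2 ∨ ni = 3 ∨ ni = 6) (hnj : nj = 1 ∨ nj = 2 ∨ nj = 3 ∨ nj = 6)
    (hxi : ni * (q + r + 1) * xi = q ^ 3 * (q - 1) * (q ^ 3 + 1))
    (hxj : nj * (q - r + 1) * xj = q ^ 3 * (q - 1) * (q ^ 3 + 1))
    (hT : 3 * ((q + r) * xi + (q - r) * xj) = q ^ 4 * (q ^ 2 - 1) * (q - 2)) :
    ni = 6 ∧ nj = 6 := by
  have hrq : r < q := by nlinarith
  have hP : (q + r + 1) ≠ 0 := by
    have : 0 < q + r + 1 := by linarith
    exact this.ne'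
  have hQ : (q - r + 1) ≠ 0 := by
    have : 0 < q - r + 1 := by linarith
    exact this.ne'
  have E1 : ni * xi = q ^ 3 * (q - 1) * (q + 1) * (q - r + 1) := by
    apply mul_left_cancel₀ hP
    linear_combination hxi + q ^ 3 * (q - 1) * (q + 1) * hr
  have E2 : nj * xj = q ^ 3 * (q - 1) * (q + 1) * (q + r + 1) := by
    apply mul_left_cancel₀ hQ
    linear_combination hxj + q ^ 3 * (q - 1) * (q + 1) * hr
  have E : 6 * ((q + r) * xi) + 6 * ((q - r) * xj)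
      = ni * ((q + r) * xi) + nj * ((q - r) * xj) := by
    linear_combination 2 * hT - (q + r) * E1 - (q - r) * E2
      + 2 * (q ^ 3 * (q - 1) * (q + 1)) * hr
  have hM : 0 < q ^ 3 * (q - 1) * (q + 1) := by
    have h1 : 0 < q ^ 3 := by positivity
    have h2 : 0 < q - 1 := by linarith
    have h3 : 0 < q + 1 := by linarith
    exact mul_pos (mul_pos h1 h2) h3
  have hpos1 : 0 < q ^ 3 * (q - 1) * (q + 1) * (q - r + 1) := mul_pos hM (by linarith)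
  have hpos2 : 0 < q ^ 3 * (q - 1) * (q + 1) * (q + r + 1) := mul_pos hM (by linarith)
  have hxi_pos : 0 < xi := by
    rcases hni with rfl | rfl | rfl | rfl <;> linarith
  have hxj_pos : 0 < xj := by
    rcases hnj with rfl | rfl | rfl | rfl <;> linarith
  have hA : 0 < (q + r) * xi := mul_pos (by linarith) hxi_pos
  have hB : 0 < (q - r) * xj := mul_pos (by linarith) hxj_pos
  obtain ⟨A, hAdef⟩ : ∃ A, A = (q + r) * xi := ⟨_, rfl⟩
  obtain ⟨B, hBdef⟩ : ∃ B, B = (q - r) * xj := ⟨_, rfl⟩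
  rw [← hAdef] at E hA
  rw [← hBdef] at E hB
  rcases hni with rfl | rfl | rfl | rfl <;> rcases hnj with rfl | rfl | rfl | rfl <;>
    first
    | exact ⟨rfl, rfl⟩
    | (exfalso; linarith)

theorem main : Cfsg.Agent.Lib.Helper18.ReeHallStmt.DioP := by
  intro m hm k c n T hc hn hdv hprod hsum hT
  obtain ⟨i, j, hi, hj, hall⟩ :=
    Cfsg.Agent.Lib.Helper93.ReeSpDIO.main m hm k c n T hc hn hdv hprod hsum hT
  refine ⟨i, j, hi, hj, hall, ?_⟩
  obtain ⟨q, hq⟩ : ∃ q, q = qq m := ⟨_, rfl⟩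
  obtain ⟨r, hr⟩ : ∃ r, r = rr m := ⟨_, rfl⟩
  have hr2 : r * r = 3 * q := by
    rw [hr, hq]
    show 3 ^ (m + 1) * 3 ^ (m + 1) = 3 * 3 ^ (2 * m + 1)
    rw [← pow_add, ← pow_succ']
    congr 1
    omega
  have hq27 : 27 ≤ q := by
    rw [hq]
    show 27 ≤ 3 ^ (2 * m + 1)
    calc 27 = 3 ^ 3 := by norm_num
      _ ≤ 3 ^ (2 * m + 1) := Nat.pow_le_pow_right (by norm_num) (by omega)
  have hrq : r ≤ q := by
    rw [hr, hq]
    exact Nat.pow_le_pow_right (by norm_num) (by omega)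
  have hr1 : 1 ≤ r := by
    rw [hr]
    exact Nat.one_le_pow _ _ (by norm_num)
  rw [← hq] at hdv hsum hT hi hj
  rw [← hr] at hi hj
  have hij : i ≠ j := by
    intro h
    rw [h] at hi
    rw [hi] at hj
    omega
  have huniv : (Finset.univ : Finset (Fin k)) = {i, j} := by
    ext l
    simp only [Finset.mem_univ, Finset.mem_insert, Finset.mem_singleton, true_iff]
    exact hall l
  rw [huniv, Finset.sum_pair hij] at hsum
  obtain ⟨xi, hxi⟩ := hdv i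
  obtain ⟨xj, hxj⟩ := hdv j
  have hni0 : 0 < n i := Nat.pos_of_dvd_of_pos (hn i) (by norm_num)
  have hnj0 : 0 < n j := Nat.pos_of_dvd_of_pos (hn j) (by norm_num)
  have hci0 : 0 < c i := by have := hc i; omega
  have hcj0 : 0 < c j := by have := hc j; omega
  have hdi : q ^ 3 * (q - 1) * (q ^ 3 + 1) / (n i * c i) = xi := by
    rw [hxi]
    exact Nat.mul_div_cancel_left _ (Nat.mul_pos hni0 hci0)
  have hdj : q ^ 3 * (q - 1) * (q ^ 3 + 1) / (n j * c j) = xj := by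
    rw [hxj]
    exact Nat.mul_div_cancel_left _ (Nat.mul_pos hnj0 hcj0)
  rw [hdi, hdj] at hsum
  rw [hi] at hxi hsum
  rw [hj] at hxj hsum
  have c1 : ((q - 1 : ℕ) : ℤ) = (q : ℤ) - 1 := by
    rw [Nat.cast_sub (by omega)]; simp
  have c2 : ((q - 2 : ℕ) : ℤ) = (q : ℤ) - 2 := by
    rw [Nat.cast_sub (by omega)]; simp
  have c3 : ((q ^ 2 - 1 : ℕ) : ℤ) = (q : ℤ) ^ 2 - 1 := by
    rw [Nat.cast_sub (Nat.one_le_pow _ _ (by omega))]; simp
  have c4 : ((q - r : ℕ) : ℤ) = (q : ℤ) - r := by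
    rw [Nat.cast_sub hrq]
  have c5 : ((q + r + 1 - 1 : ℕ) : ℤ) = (q : ℤ) + r := by
    rw [Nat.add_sub_cancel]; simp
  have c6 : ((q - r + 1 - 1 : ℕ) : ℤ) = (q : ℤ) - r := by
    rw [Nat.add_sub_cancel, c4]
  have hxiZ : (n i : ℤ) * ((q : ℤ) + r + 1) * xi = (q : ℤ) ^ 3 * ((q : ℤ) - 1) * ((q : ℤ) ^ 3 + 1) := by
    have := congrArg (Nat.cast : ℕ → ℤ) hxi
    push_cast [c1] at this
    linarith
  have hxjZ : (n j : ℤ) * ((q : ℤ) - r + 1) * xj = (q : ℤ) ^ 3 * ((q : ℤ) - 1) * ((q : ℤ) ^ 3 + 1) := by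
    have := congrArg (Nat.cast : ℕ → ℤ) hxj
    push_cast [c1, c4] at this
    linarith
  have hTZ : 3 * (((q : ℤ) + r) * xi + ((q : ℤ) - r) * xj)
      = (q : ℤ) ^ 4 * ((q : ℤ) ^ 2 - 1) * ((q : ℤ) - 2) := by
    have h1 := congrArg (Nat.cast : ℕ → ℤ) hT
    have h2 := congrArg (Nat.cast : ℕ → ℤ) hsum
    push_cast [c2, c3] at h1
    push_cast [c5, c6] at h2
    rw [c4] at h2
    rw [← h1, ← h2]
  have hniZ : (n i : ℤ) = 1 ∨ (n i : ℤ) = 2 ∨ (n i : ℤ) = 3 ∨ (n i : ℤ) = 6 := by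
    rcases Cfsg.Agent.Lib.Helper93.ReeSpDIO.dvd6 _ (hn i) with h | h | h | h <;> rw [h] <;> simp
  have hnjZ : (n j : ℤ) = 1 ∨ (n j : ℤ) = 2 ∨ (n j : ℤ) = 3 ∨ (n j : ℤ) = 6 := by
    rcases Cfsg.Agent.Lib.Helper93.ReeSpDIO.dvd6 _ (hn j) with h | h | h | h <;> rw [h] <;> simp
  have hr2Z : (r : ℤ) * r = 3 * q := by exact_mod_cast hr2
  obtain ⟨h1, h2⟩ := core (q : ℤ) (r : ℤ) (n i) (n j) xi xj (by exact_mod_cast hq27)
    (by positivity) hr2Z hniZ hnjZ hxiZ hxjZ hTZ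
  exact ⟨by exact_mod_cast h1, by exact_mod_cast h2⟩

end Cfsg.Agent.Lib.Helper51.RHDIOP
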