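import Mathlib
import Cfsg.Agent.Lib.Helper4.UniStmt
import Cfsg.Agent.Lib.Helper4.SchA

/-!
# Piece FMA of S4395: the abelian case of the field model
-/

set_option autoImplicit false

namespace Cfsg.Agent.Lib.Helper51.UniFMA

open Cfsg.Agent.Lib.Helper4.UniStmt

universe u

theorem main : FMA.{u} := by
  intro p q _ _ hpq T _ _ σ hHyp hab
  obtain ⟨hT, hσq, hσ1, hR⟩ := hHyp
  have hp : p.Prime := Fact.out
  have hq : q.Prime := Fact.out
  -- the homomorphism `t ↦ σ t * t⁻¹`
  obtain ⟨φ, hφ⟩ : ∃ φ : T →* T, ∀ t, φ t = σ t * t⁻¹ := by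
    refine ⟨{ toFun := fun t => σ t * t⁻¹, map_one' := by simp, map_mul' := ?_ }, fun t => rfl⟩
    intro a b
    show σ (a * b) * (a * b)⁻¹ = σ a * a⁻¹ * (σ b * b⁻¹)
    rw [map_mul, mul_inv_rev, hab b⁻¹ a⁻¹, mul_assoc, ← mul_assoc (σ b), hab (σ b) a⁻¹,
      mul_assoc, ← mul_assoc]
  have hfix : ∀ t : T, σ t = t → t = 1 := by
    have hsurj : Function.Surjective φ := by
      by_contra hns
      have hK : φ.range ≠ ⊤ := fun h => hns (MonoidHom.range_eq_top.mp h)
      have hinv : ∀ r ∈ φ.range, σ r ∈ φ.range := by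
        rintro r ⟨t, rfl⟩
        exact ⟨σ t, by rw [hφ, hφ, map_mul, map_inv]⟩
      have hfixK := hR φ.range hK hinv
      apply hσ1
      ext t
      have hu : σ (φ t) = φ t := hfixK _ ⟨t, rfl⟩
      have hx : σ t = t * φ t := by rw [hφ, hab t, inv_mul_cancel_right]
      have h1 : φ t = 1 := Cfsg.Agent.Lib.Helper4.SchA.cop hp hT σ hq (Ne.symm hpq) hσq hx hu
      rw [h1, mul_one] at hx
      rw [hx]; rfl
    have hinj : Function.Injective φ := Finite.injective_iff_surjective.mpr hsurj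
    intro t ht
    apply hinj
    rw [map_one, hφ, ht, mul_inv_cancel]
  refine ⟨hfix, ?_⟩
  -- the `p`-th power map
  obtain ⟨ψ, hψ⟩ : ∃ ψ : T →* T, ∀ t, ψ t = t ^ p :=
    ⟨{ toFun := fun t => t ^ p, map_one' := one_pow p,
       map_mul' := fun a b => Commute.mul_pow (hab a b) p }, fun t => rfl⟩
  have hnt : Nontrivial T := by
    by_contra h
    rw [not_nontrivial_iff_subsingleton] at h
    exact hσ1 (MulEquiv.ext (fun t => Subsingleton.elim _ _))
  have hdvd : p ∣ Nat.card T := by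
    obtain ⟨k, hk⟩ := IsPGroup.iff_card.mp hT
    have h1 : 1 < Nat.card T := Finite.one_lt_card_iff_nontrivial.mpr hnt
    rw [hk] at h1 ⊢
    cases k with
    | zero => simp at h1
    | succ k => exact Dvd.intro_left _ (pow_succ p k).symm
  obtain ⟨x, hx⟩ := exists_prime_orderOf_dvd_card' p hdvd
  have hx1 : x ≠ 1 := by
    intro h; rw [h, orderOf_one] at hx; exact hp.one_lt.ne hx
  have hnsurj : ¬ Function.Surjective ψ := by
    intro hs
    have hinj : Function.Injective ψ := Finite.injective_iff_surjective.mpr hs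
    apply hx1
    apply hinj
    rw [map_one, hψ, ← hx, pow_orderOf_eq_one]
  have hK : ψ.range ≠ ⊤ := fun h => hnsurj (MonoidHom.range_eq_top.mp h)
  have hinv : ∀ r ∈ ψ.range, σ r ∈ ψ.range := by
    rintro r ⟨t, rfl⟩
    exact ⟨σ t, by rw [hψ, hψ, map_pow]⟩
  intro t
  have h1 := hR ψ.range hK hinv (ψ t) ⟨t, rfl⟩
  rw [← hψ]
  exact hfix _ h1

end Cfsg.Agent.Lib.Helper51.UniFMA
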