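import Mathlib
import Cfsg.Agent.Lib.Helper51.TWa

/-!
The `p`-group step of the Thompson-Wielandt argument: the second core is a `p`-group.
-/

set_option autoImplicit false
set_option linter.style.haveILetI false

namespace Cfsg.Agent.Lib.Helper51.TWc

open Subgroup
open Cfsg.Agent.Lib.Helper51.TWa

variable {G : Type*} [Group G]

/-- the subgroup generated by the elements of `S` of order prime to `p` -/
def pp (p : ℕ) (S : Subgroup G) : Subgroup G :=
  Subgroup.closure {x | x ∈ S ∧ (orderOf x).Coprime p}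

theorem pp_le (p : ℕ) (S : Subgroup G) : pp p S ≤ S :=
  (closure_le _).2 (fun _ hx => hx.1)

theorem pp_conj_le {p : ℕ} {S : Subgroup G} {g : G}
    (h1 : ∀ x ∈ S, (orderOf x).Coprime p → g * x * g⁻¹ ∈ S) :
    pp p S ≤ (pp p S).comap (MulAut.conj g).toMonoidHom := by
  unfold pp
  rw [closure_le]
  rintro x ⟨hx, hxo⟩
  show (MulAut.conj g) x ∈ Subgroup.closure {x | x ∈ S ∧ (orderOf x).Coprime p}
  apply Subgroup.subset_closure
  refine ⟨by simpa [MulAut.conj_apply] using h1 x hx hxo, ?_⟩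
  rw [MulEquiv.orderOf_eq]; exact hxo

theorem mem_normalizer_pp {p : ℕ} {S : Subgroup G} {g : G}
    (h1 : ∀ x ∈ S, (orderOf x).Coprime p → g * x * g⁻¹ ∈ S)
    (h2 : ∀ x ∈ S, (orderOf x).Coprime p → g⁻¹ * x * g ∈ S) :
    g ∈ normalizer ((pp p S : Subgroup G) : Set G) := by
  have a := pp_conj_le h1
  have b : pp p S ≤ (pp p S).comap (MulAut.conj g⁻¹).toMonoidHom := by
    apply pp_conj_le
    intro x hx hxo
    simpa using h2 x hx hxo
  rw [mem_normalizer_iff]
  intro x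
  constructor
  · intro hx
    have := a hx
    simpa [MulAut.conj_apply] using this
  · intro hx
    have := b hx
    simpa [MulAut.conj_apply, mul_assoc] using this

theorem isPGroup_of_pp_eq_bot [Finite G] {p : ℕ} (hp : p.Prime) {S : Subgroup G}
    (h : pp p S = ⊥) : IsPGroup p S := by
  intro g
  have hpos : orderOf (g : G) ≠ 0 := (orderOf_pos (g : G)).ne'
  obtain ⟨e, n', hn', hn⟩ := Nat.exists_eq_pow_mul_and_not_dvd hpos p hp.ne_one
  refine ⟨e, ?_⟩
  have hy : ((g : G) ^ p ^ e) ^ n' = 1 := by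
    rw [← pow_mul, ← hn, pow_orderOf_eq_one]
  have hdvd : orderOf ((g : G) ^ p ^ e) ∣ n' := orderOf_dvd_of_pow_eq_one hy
  have hcop : (orderOf ((g : G) ^ p ^ e)).Coprime p :=
    Nat.Coprime.coprime_dvd_left hdvd ((Nat.Prime.coprime_iff_not_dvd hp).2 hn').symm
  have hmem : (g : G) ^ p ^ e ∈ pp p S := subset_closure ⟨S.pow_mem g.2 _, hcop⟩
  rw [h, mem_bot] at hmem
  apply Subtype.ext
  simpa using hmem

theorem mem_of_pow_mem_of_coprime {C : Subgroup G} {f : G} {m n : ℕ} (h : Nat.Coprime m n)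
    (hm : f ^ m ∈ C) (hn : f ^ n ∈ C) : f ∈ C := by
  have h1 : f ^ ((m : ℤ) * Nat.gcdA m n + (n : ℤ) * Nat.gcdB m n) ∈ C := by
    rw [zpow_add, zpow_mul, zpow_mul]
    exact C.mul_mem (C.zpow_mem (by simpa using hm) _) (C.zpow_mem (by simpa using hn) _)
  rw [← Nat.gcd_eq_gcd_ab, Nat.Coprime.gcd_eq_one h] at h1
  simpa using h1

/-- Lemma W: a normal `p`-subgroup of `H` sends `p'`-elements of `S` into `S`
when `S` is normal in a normal subgroup `N` of `H`. -/
theorem W_elt {p : ℕ} {S N H R : Subgroup G} (hSN : S ≤ N)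
    (hNS : N ≤ normalizer (S : Set G)) (hNH : N ≤ H) (hHN : H ≤ normalizer (N : Set G))
    (hRH : R ≤ H) (hHR : H ≤ normalizer (R : Set G)) (hR : IsPGroup p R) {y : G} (hy : y ∈ R)
    {x : G} (hx : x ∈ S) (hxo : (orderOf x).Coprime p) : y * x * y⁻¹ ∈ S := by
  obtain ⟨c, hc⟩ : ∃ c, c = y * x * y⁻¹ * x⁻¹ := ⟨_, rfl⟩
  have hxH : x ∈ H := hNH (hSN hx)
  have hcR : c ∈ R := by
    have h1 : x * y⁻¹ * x⁻¹ ∈ R := (mem_normalizer_iff.1 (hHR hxH) y⁻¹).1 (R.inv_mem hy)
    have e1 : c = y * (x * y⁻¹ * x⁻¹) := by rw [hc]; group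
    rw [e1]; exact R.mul_mem hy h1
  have hcN : c ∈ N := by
    have h1 : y * x * y⁻¹ ∈ N := (mem_normalizer_iff.1 (hHN (hRH hy)) x).1 (hSN hx)
    rw [hc]; exact N.mul_mem h1 (N.inv_mem (hSN hx))
  have hind : ∀ j : ℕ, (c ^ j)⁻¹ * (c * x) ^ j ∈ S := by
    intro j
    induction j with
    | zero => simp
    | succ j ih =>
      have h1 : c⁻¹ * ((c ^ j)⁻¹ * (c * x) ^ j) * c⁻¹⁻¹ ∈ S :=
        (mem_normalizer_iff.1 (hNS (N.inv_mem hcN)) _).1 ih
      have e1 : (c ^ (j + 1))⁻¹ * (c * x) ^ (j + 1) =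
          c⁻¹ * ((c ^ j)⁻¹ * (c * x) ^ j) * c⁻¹⁻¹ * x := by
        rw [pow_succ, pow_succ]; group
      rw [e1]; exact S.mul_mem h1 hx
  have hcx : c * x = y * x * y⁻¹ := by rw [hc]; group
  have hpow : (c * x) ^ orderOf x = 1 := by
    rw [hcx]
    have e1 : y * x * y⁻¹ = MulAut.conj y x := by simp [MulAut.conj_apply]
    rw [e1, ← map_pow, pow_orderOf_eq_one, map_one]
  have hcm : c ^ orderOf x ∈ S := by
    have h1 := hind (orderOf x)
    rw [hpow, mul_one] at h1
    have h2 := S.inv_mem h1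
    simpa using h2
  obtain ⟨k, hk⟩ := hR ⟨c, hcR⟩
  have hck : c ^ p ^ k ∈ S := by
    have h1 : c ^ p ^ k = 1 := by
      have := congrArg Subtype.val hk
      simpa using this
    rw [h1]; exact S.one_mem
  have hcS : c ∈ S := mem_of_pow_mem_of_coprime (Nat.Coprime.pow_right k hxo) hcm hck
  have e2 : y * x * y⁻¹ = c * x := hcx.symm
  rw [e2]; exact S.mul_mem hcS hx

theorem exists_mul_of_mem_sup {A B : Subgroup G} (h : B ≤ normalizer (A : Set G)) {x : G}
    (hx : x ∈ A ⊔ B) : ∃ a ∈ A, ∃ b ∈ B, x = a * b := by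
  have hA : A ≤ A ⊔ B := le_sup_left
  have hB : B ≤ A ⊔ B := le_sup_right
  have hn : (A.subgroupOf (A ⊔ B)).Normal := by
    rw [normal_subgroupOf_iff_le_normalizer hA]
    exact sup_le le_normalizer h
  have h1 : (⟨x, hx⟩ : ↥(A ⊔ B)) ∈ A.subgroupOf (A ⊔ B) ⊔ B.subgroupOf (A ⊔ B) := by
    rw [← subgroupOf_sup hA hB, subgroupOf_self]
    trivial
  rw [mem_sup_of_normal_left] at h1
  obtain ⟨y, hy, z, hz, hyz⟩ := h1
  refine ⟨y, by simpa [mem_subgroupOf] using hy, z, by simpa [mem_subgroupOf] using hz, ?_⟩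
  have := congrArg Subtype.val hyz
  simpa using this.symm

variable {M M' A₁ B₁ A₂ B₂ : Subgroup G}

/-- Step D: the `p'`-elements of `A₂` generate the trivial group. -/
theorem stepD [Finite G] {p : ℕ} [Fact p.Prime] (c : Cfg M M' A₁ B₁ A₂ B₂)
    {F : Subgroup G → Subgroup G} (hF : IsFun F)
    (hmax : ∀ X H : Subgroup G, X ≤ H → H ≤ normalizer (X : Set G) → IsPGroup p X → X ≤ F H)
    (hpg : ∀ H : Subgroup G, IsPGroup p (F H))
    (hcard : Nat.card (F M') ≤ Nat.card (F M))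
    (hQ' : F M' ≠ ⊥) : pp p A₂ = ⊥ := by
  by_contra hK
  have hKM : pp p A₂ ≤ M := (pp_le p A₂).trans (c.A₂A.trans c.A₁M)
  have hKn : M ≤ normalizer ((pp p A₂ : Subgroup G) : Set G) := by
    intro m hm
    apply mem_normalizer_pp
    · intro x hx _
      exact (mem_normalizer_iff.1 (c.A₂n hm) x).1 hx
    · intro x hx _
      have := (mem_normalizer_iff.1 (c.A₂n (inv_mem hm)) x).1 hx
      simpa using this
  have hKN : normalizer ((pp p A₂ : Subgroup G) : Set G) ≤ M := c.hM _ hKM hKn hK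
  have hQ'M' : F M' ≤ M' := hF.le M'
  have hQ'n : M' ≤ normalizer ((F M' : Subgroup G) : Set G) := hF.le_normalizer le_normalizer
  have h3 : F M' ≤ M := by
    refine le_trans ?_ hKN
    intro y hy
    apply mem_normalizer_pp
    · intro x hx hxo
      exact W_elt c.A₂B (c.B₁M.trans c.A₂n) c.B₁M' c.B₁n hQ'M' hQ'n (hpg M') hy hx hxo
    · intro x hx hxo
      have := W_elt c.A₂B (c.B₁M.trans c.A₂n) c.B₁M' c.B₁n hQ'M' hQ'n (hpg M')
        (inv_mem hy) hx hxo
      simpa using this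
  have hQ'U : F M' ≤ F (M ⊓ M') :=
    hmax _ _ (le_inf h3 hQ'M') (inf_le_right.trans hQ'n) (hpg M')
  have hUD : F (M ⊓ M') ≤ M ⊓ M' := hF.le _
  have hUn : M ⊓ M' ≤ normalizer ((F (M ⊓ M') : Subgroup G) : Set G) :=
    hF.le_normalizer le_normalizer
  have h4 : F (M ⊓ M') ≤ B₁ := by
    apply c.B₁u
    · exact hUD.trans inf_le_right
    · intro h hh u hu
      apply hKN
      have key : ∀ u ∈ F (M ⊓ M'), ∀ x ∈ A₂, (orderOf x).Coprime p →
          (h * u * h⁻¹) * x * (h * u * h⁻¹)⁻¹ ∈ A₂ := by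
        intro u hu x hx hxo
        have hx' : h⁻¹ * x * h ∈ A₂.map (MulAut.conj h⁻¹).toMonoidHom := by
          rw [mem_cj]
          have e1 : h⁻¹⁻¹ * (h⁻¹ * x * h) * h⁻¹ = x := by group
          rw [e1]; exact hx
        have hxo' : (orderOf (h⁻¹ * x * h)).Coprime p := by
          have e1 : h⁻¹ * x * h = MulAut.conj h⁻¹ x := by simp
          rw [e1, MulEquiv.orderOf_eq]; exact hxo
        have h5 := W_elt (S := A₂.map (MulAut.conj h⁻¹).toMonoidHom) (N := B₁) (H := M ⊓ M')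
          (R := F (M ⊓ M')) (cj_le c.A₂B (c.B₁n (inv_mem hh)))
          (cj_le_normalizer (c.B₁M.trans c.A₂n) (c.B₁n (inv_mem hh)))
          (le_inf c.B₁M c.B₁M') (inf_le_right.trans c.B₁n) hUD hUn (hpg _) hu hx' hxo'
        rw [mem_cj] at h5
        have e2 : h⁻¹⁻¹ * (u * (h⁻¹ * x * h) * u⁻¹) * h⁻¹ =
            (h * u * h⁻¹) * x * (h * u * h⁻¹)⁻¹ := by group
        rwa [e2] at h5
      apply mem_normalizer_pp
      · intro x hx hxo
        exact key u hu x hx hxo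
      · intro x hx hxo
        have h6 := key u⁻¹ (inv_mem hu) x hx hxo
        have e3 : (h * u⁻¹ * h⁻¹) * x * (h * u⁻¹ * h⁻¹)⁻¹ = (h * u * h⁻¹)⁻¹ * x * (h * u * h⁻¹) := by
          group
        rwa [e3] at h6
  have hUQ' : F (M ⊓ M') ≤ F M' :=
    (hmax _ B₁ h4 ((le_inf c.B₁M c.B₁M').trans hUn) (hpg _)).trans (hF.mono B₁ M' c.B₁M' c.B₁n)
  have hU : F (M ⊓ M') = F M' := le_antisymm hUQ' hQ'U
  have hQn : M ≤ normalizer ((F M : Subgroup G) : Set G) := hF.le_normalizer le_normalizer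
  have h5 : F M ⊓ M' ≤ F M' := by
    rw [← hU]
    apply hmax
    · exact le_inf (inf_le_left.trans (hF.le M)) inf_le_right
    · intro d hd
      rw [mem_normalizer_iff]
      intro x
      have h1 := mem_normalizer_iff.1 (hQn hd.1) x
      have h2 : x ∈ M' ↔ d * x * d⁻¹ ∈ M' := by
        constructor
        · intro hx
          exact M'.mul_mem (M'.mul_mem hd.2 hx) (M'.inv_mem hd.2)
        · intro hx
          have h7 := M'.mul_mem (M'.mul_mem (M'.inv_mem hd.2) hx) hd.2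
          have e1 : d⁻¹ * (d * x * d⁻¹) * d = x := by group
          rwa [e1] at h7
      exact and_congr h1 h2
    · exact (hpg M).to_le inf_le_left
  have hQ'nQ : F M' ≤ normalizer ((F M : Subgroup G) : Set G) := h3.trans hQn
  have hTp : IsPGroup p ↥(F M ⊔ F M') := IsPGroup.to_sup_of_normal_left' (hpg M) (hpg M') hQ'nQ
  have hM'N : normalizer ((F M' : Subgroup G) : Set G) ≤ M' := c.hM' _ hQ'M' hQ'n hQ'
  have hT : (F M').subgroupOf (F M ⊔ F M') = ⊤ := by
    by_contra hlt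
    have hnil : Group.IsNilpotent ↥(F M ⊔ F M') := hTp.isNilpotent
    have hnc := Group.normalizerCondition_of_isNilpotent (G := ↥(F M ⊔ F M')) _
      (lt_top_iff_ne_top.2 hlt)
    obtain ⟨t, htn, htQ⟩ := SetLike.exists_of_lt hnc
    apply htQ
    rw [mem_subgroupOf]
    have ht_norm : (t : G) ∈ normalizer ((F M' : Subgroup G) : Set G) := by
      rw [mem_normalizer_iff]
      intro x
      constructor
      · intro hx
        have h7 := (mem_normalizer_iff.1 htn ⟨x, (le_sup_right : F M' ≤ F M ⊔ F M') hx⟩).1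
          (by rw [mem_subgroupOf]; exact hx)
        rw [mem_subgroupOf] at h7
        simpa using h7
      · intro hx
        have hxT : x ∈ F M ⊔ F M' := by
          have h1 : (t : G)⁻¹ * ((t : G) * x * (t : G)⁻¹) * (t : G) ∈ F M ⊔ F M' :=
            mul_mem (mul_mem (inv_mem t.2) ((le_sup_right : F M' ≤ F M ⊔ F M') hx)) t.2
          have e1 : (t : G)⁻¹ * ((t : G) * x * (t : G)⁻¹) * (t : G) = x := by group
          rwa [e1] at h1
        have h7 := (mem_normalizer_iff.1 htn ⟨x, hxT⟩).2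
          (by rw [mem_subgroupOf]; simpa using hx)
        rw [mem_subgroupOf] at h7
        simpa using h7
    obtain ⟨a, ha, b, hb, hab⟩ := exists_mul_of_mem_sup hQ'nQ t.2
    have haM' : a ∈ M' := by
      have e1 : a = (t : G) * b⁻¹ := by rw [hab]; group
      rw [e1]; exact M'.mul_mem (hM'N ht_norm) (M'.inv_mem (hQ'M' hb))
    rw [hab]; exact (F M').mul_mem (h5 ⟨ha, haM'⟩) hb
  have hQQ' : F M ≤ F M' := by
    intro x hx
    have h7 : (⟨x, (le_sup_left : F M ≤ F M ⊔ F M') hx⟩ : ↥(F M ⊔ F M')) ∈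
        (F M').subgroupOf (F M ⊔ F M') := by rw [hT]; trivial
    rw [mem_subgroupOf] at h7
    exact h7
  have hEq : F M = F M' := Subgroup.eq_of_le_of_card_ge hQQ' hcard
  have hQne : F M ≠ ⊥ := by rw [hEq]; exact hQ'
  have h6 : normalizer ((F M : Subgroup G) : Set G) ≤ M := c.hM _ (hF.le M) hQn hQne
  have h7 : M' ≤ normalizer ((F M : Subgroup G) : Set G) := by rw [hEq]; exact hQ'n
  exact c.hne (h7.trans h6)

end Cfsg.Agent.Lib.Helper51.TWc
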