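import Mathlib
import Cfsg.Agent.Lib.Helper88.CESStmt
import Cfsg.Agent.Lib.Helper87.FSSat

/-!
# S5127 piece CONJC: an `F`-conjugate inside `C_S(T)` of a subgroup of `C_S(T)` centralizing `E`
centralizes `E` (from RECV and TRANS).
-/

set_option autoImplicit false

namespace Cfsg.Agent.Lib.Helper51.CECONJC

open Cfsg Cfsg.FusionSystem Cfsg.Agent.Lib.Helper88.FCStmt Cfsg.Agent.Lib.Helper88.CESStmt

universe u

/-- a map of the system defined on a subgroup containing the strongly closed `T` maps `T` onto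
`T`. -/
theorem image_strongly_closed {Ω : Type u} [Group Ω] {S : Subgroup Ω} [Finite S]
    (F : FusionSystem S) {T : Subgroup Ω} (hT : F.StronglyClosed T) {P : Subgroup Ω}
    (hTP : T ≤ P) {ψ : P →* Ω} (hψ : ψ ∈ F.Hom P) :
    ∀ t ∈ T, ∃ t' : P, (t' : Ω) ∈ T ∧ ψ t' = t := by
  have hres : ψ.comp (Subgroup.inclusion hTP) ∈ F.Hom T := Cfsg.Agent.H85.restrict_mem F hψ hTP
  have hmem : ∀ x : T, ψ (Subgroup.inclusion hTP x) ∈ T := fun x => hT.2 T le_rfl _ hres x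
  have hfin : Finite T :=
    Finite.of_injective (Subgroup.inclusion hT.1) (Subgroup.inclusion_injective hT.1)
  let f : T → T := fun x => ⟨ψ (Subgroup.inclusion hTP x), hmem x⟩
  have hf : Function.Injective f := by
    intro a b hab
    have h1 : ψ (Subgroup.inclusion hTP a) = ψ (Subgroup.inclusion hTP b) :=
      congrArg Subtype.val hab
    have h2 := F.injective_of_mem hψ h1
    exact Subgroup.inclusion_injective hTP h2
  have hs := Finite.injective_iff_surjective.mp hf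
  intro t ht
  obtain ⟨a, ha⟩ := hs ⟨t, ht⟩
  exact ⟨Subgroup.inclusion hTP a, a.2, congrArg Subtype.val ha⟩

theorem main (hR : RecvCentral.{u}) (hT : TransCentral.{u}) : ConjCentral.{u} := by
  intro Ω _ S _ p _ hS F hsat T E hEn X hXC hXE φ hφ hφC
  have hTcl : F.StronglyClosed T := hEn.1.2.2.2.1
  have hTS : T ≤ S := hTcl.1
  have hRS : φ.range ≤ S := hφC.trans inf_le_left
  obtain ⟨σ, hσ, -, hrec⟩ := Cfsg.Agent.Lib.Helper87.FSSat.exists_far F hsat hRS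
  have hφR : ∀ x : X, φ x ∈ φ.range := fun x => ⟨x, rfl⟩
  have hρ : σ.comp (φ.codRestrict φ.range hφR) ∈ F.Hom X := F.comp_mem hφ hσ hφR
  have hρrange : (σ.comp (φ.codRestrict φ.range hφR)).range = σ.range := by
    ext y; constructor
    · rintro ⟨x, rfl⟩; exact ⟨_, rfl⟩
    · rintro ⟨⟨_, x, rfl⟩, rfl⟩; exact ⟨x, rfl⟩
  have hrec' : F.IsReceptive (σ.comp (φ.codRestrict φ.range hφR)).range := by
    rw [hρrange]; exact hrec
  obtain ⟨hX''C, hX''E⟩ := hR p hS F hsat E hEn X hXC hXE _ hρ hrec'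
  rw [hρrange] at hX''C hX''E
  obtain ⟨ψ, hψ, hψx⟩ := Cfsg.Agent.H85.receptive_extend_sup F hrec hσ rfl
  have hTC : T ≤ centralizerIn S φ.range := by
    intro t ht
    refine ⟨hTS ht, ?_⟩
    intro x hx
    exact ((hφC hx).2 t ht).symm
  have hle : T ⊔ φ.range ≤ φ.range ⊔ centralizerIn S φ.range :=
    sup_le (hTC.trans le_sup_right) le_sup_left
  have hψ' : ψ.comp (Subgroup.inclusion hle) ∈ F.Hom (T ⊔ φ.range) :=
    Cfsg.Agent.H85.restrict_mem F hψ hle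
  have hψ'r : ∀ (r : φ.range) (hr' : (r : Ω) ∈ T ⊔ φ.range),
      (ψ.comp (Subgroup.inclusion hle)) ⟨(r : Ω), hr'⟩ = σ r := by
    intro r hr'
    rw [← hψx r]; rfl
  have hrange : T ⊔ σ.range ≤ (ψ.comp (Subgroup.inclusion hle)).range := by
    refine sup_le ?_ ?_
    · intro t ht
      obtain ⟨t', -, hψt⟩ :=
        image_strongly_closed F hTcl (le_sup_left : T ≤ T ⊔ φ.range) hψ' t ht
      exact ⟨t', hψt⟩
    · rintro _ ⟨r, rfl⟩
      exact ⟨⟨(r : Ω), (le_sup_right : φ.range ≤ T ⊔ φ.range) r.2⟩, hψ'r r _⟩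
  obtain ⟨β, hβ, hβx⟩ := Cfsg.Agent.H85.inv_mem' F hψ' hrange
  have key := hT p hS F hsat E hEn σ.range hX''C hX''E β hβ φ.range ?_
  · exact key.2
  · intro y
    constructor
    · intro hy
      have hy' : y ∈ T ⊔ φ.range := (le_sup_right : φ.range ≤ T ⊔ φ.range) hy
      have h1 : (ψ.comp (Subgroup.inclusion hle)) ⟨y, hy'⟩ = σ ⟨y, hy⟩ := hψ'r ⟨y, hy⟩ hy'
      have h2 : (ψ.comp (Subgroup.inclusion hle)) ⟨y, hy'⟩ ∈ T ⊔ σ.range := by
        rw [h1]; exact (le_sup_right : σ.range ≤ T ⊔ σ.range) ⟨_, rfl⟩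
      refine ⟨⟨_, h2⟩, ?_, hβx ⟨y, hy'⟩ h2⟩
      show (ψ.comp (Subgroup.inclusion hle)) ⟨y, hy'⟩ ∈ σ.range
      rw [h1]; exact ⟨_, rfl⟩
    · rintro ⟨x, hxX, rfl⟩
      obtain ⟨r, hr⟩ := hxX
      have hr' : (r : Ω) ∈ T ⊔ φ.range := (le_sup_right : φ.range ≤ T ⊔ φ.range) r.2
      have h1 : (ψ.comp (Subgroup.inclusion hle)) ⟨(r : Ω), hr'⟩ = σ r := hψ'r r hr'
      have h2 : (ψ.comp (Subgroup.inclusion hle)) ⟨(r : Ω), hr'⟩ ∈ T ⊔ σ.range := by
        rw [h1, hr]; exact x.2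
      have h3 := hβx ⟨(r : Ω), hr'⟩ h2
      have h4 : (⟨(ψ.comp (Subgroup.inclusion hle)) ⟨(r : Ω), hr'⟩, h2⟩ : ↥(T ⊔ σ.range)) = x :=
        Subtype.ext (h1.trans hr)
      rw [h4] at h3
      rw [h3]; exact r.2

end Cfsg.Agent.Lib.Helper51.CECONJC
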