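import Mathlib
import Cfsg.Agent.Lib.Helper32.D8Stmt
import Cfsg.Agent.Lib.Helper58.D8LOCaa

/-!
# S3716, pieces VALB and VALA: values of the induced class functions `th2`, `th1`

The conjugates of `t` lying in `C_G(x)` come from conjugating elements of `N` (by TI, as the
square of an element of `C_G(x)` lies in `T`).  The sum over `N` is then evaluated on the
72 normal forms.
-/

set_option autoImplicit false

namespace Cfsg.Agent.Lib.Helper51.D8VALB

open Cfsg
open Cfsg.Agent.Lib.Helper32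
open Cfsg.Agent.Lib.Helper58.D8LOCaa

universe u

variable {G : Type u} [Group G] {T N : Subgroup G} {x y a b w : G}

/-- Enumeration of `N` by normal forms. -/
def EN (x y a b w : G) (p : Fin 3 × Fin 3 × Fin 2 × Fin 2 × Fin 2) : G :=
  nf x y a b w p.1 p.2.1 p.2.2.1 p.2.2.2.1 p.2.2.2.2

theorem EN_inj [Finite G] (hNF : D8Stmt.NF.{u}) (cfg : D8Stmt.Cfg T N x y a b w) :
    Function.Injective (EN x y a b w) := by
  rintro ⟨i, j, k, l, m⟩ ⟨i', j', k', l', m'⟩ h
  change nf x y a b w i j k l m = nf x y a b w i' j' k' l' m' at h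
  obtain ⟨h1, h2, h3, h4, h5⟩ := nf_uniq hNF cfg h
  simp only [Prod.mk.injEq]
  refine ⟨Fin.ext ?_, Fin.ext ?_, Fin.ext ?_, Fin.ext ?_, Fin.ext ?_⟩ <;> omega

theorem sum_N [Fintype G] (hNF : D8Stmt.NF.{u}) (cfg : D8Stmt.Cfg T N x y a b w) (F : G → ℂ)
    (hF : ∀ h, h ∉ N → F h = 0) :
    ∑ h : G, F h = ∑ p : Fin 3 × Fin 3 × Fin 2 × Fin 2 × Fin 2, F (EN x y a b w p) := by
  classical
  have hinj := EN_inj hNF cfg
  rw [← Finset.sum_image (s := Finset.univ) (g := EN x y a b w) (f := F)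
    (fun p _ q _ h => hinj h)]
  symm
  apply Finset.sum_subset (Finset.subset_univ _)
  intro h _ hh
  apply hF
  intro hN
  apply hh
  obtain ⟨i, j, k, l, m, rfl⟩ := (mem_N hNF cfg h).1 hN
  rw [Finset.mem_image]
  refine ⟨(⟨i % 3, Nat.mod_lt _ (by norm_num)⟩, ⟨j % 3, Nat.mod_lt _ (by norm_num)⟩,
    ⟨k % 2, Nat.mod_lt _ (by norm_num)⟩, ⟨l % 2, Nat.mod_lt _ (by norm_num)⟩,
    ⟨m % 2, Nat.mod_lt _ (by norm_num)⟩), Finset.mem_univ _, ?_⟩
  show nf x y a b w (i % 3) (j % 3) (k % 2) (l % 2) (m % 2) = nf x y a b w i j k l m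
  apply nf_eq cfg <;> simp

/-- If a conjugate of `t` lies in `C_G(x)` and `t * t` is a nonidentity element of `T`, the
conjugating element lies in `N`. -/
theorem supp [Finite G] (hNF : D8Stmt.NF.{u}) (hTI : D8Stmt.TI.{u})
    (cfg : D8Stmt.Cfg T N x y a b w) (t : G) (i2 j2 : ℕ)
    (ht2 : t * t = nf x y a b w i2 j2 0 0 0) (hne : ¬ (i2 % 3 = 0 ∧ j2 % 3 = 0))
    (h : G) (hc : h * t * h⁻¹ ∈ Subgroup.centralizer ({x} : Set G)) : h ∈ N := by
  obtain ⟨hT, -, -, -, hC, -, -⟩ := hNF cfg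
  have htT : t * t ∈ T := (hT _).2 ⟨i2, j2, by rw [ht2]; simp [nf]⟩
  have ht1 : t * t ≠ 1 := by
    intro h1
    rw [ht2] at h1
    have h0 : (1 : G) = nf x y a b w 0 0 0 0 0 := by simp [nf]
    rw [h0] at h1
    obtain ⟨e1, e2, -⟩ := nf_uniq hNF cfg h1
    exact hne ⟨by omega, by omega⟩
  apply hTI cfg h (t * t) htT ht1
  obtain ⟨i, j, l, hijl⟩ := (hC _).1 hc
  have e : h * (t * t) * h⁻¹ = (h * t * h⁻¹) * (h * t * h⁻¹) := by group
  have e2 : x ^ i * y ^ j * b ^ l = nf x y a b w i j 0 l 0 := by simp [nf]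
  rw [e, hijl, e2, nf_mul0 hNF cfg, hT]
  refine ⟨i + (if 0 % 2 = 0 then i else 2 * i), j + (if l % 2 = 0 then j else 2 * j), ?_⟩
  rw [nf_eq cfg (i' := i + (if 0 % 2 = 0 then i else 2 * i))
    (j' := j + (if l % 2 = 0 then j else 2 * j)) (k' := 0) (l' := 0) (m' := 0) rfl rfl
    (by norm_num) (by omega) (by norm_num)]
  simp [nf]

/-- The induced function as a sum over the 72 normal forms. -/
theorem ind_val [Fintype G] (hNF : D8Stmt.NF.{u}) (hTI : D8Stmt.TI.{u})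
    (cfg : D8Stmt.Cfg T N x y a b w) (φ : Subgroup.centralizer ({x} : Set G) → ℂ)
    (t : G) (i2 j2 : ℕ)
    (ht2 : t * t = nf x y a b w i2 j2 0 0 0) (hne : ¬ (i2 % 3 = 0 ∧ j2 % 3 = 0)) :
    indFun (Subgroup.centralizer ({x} : Set G)) φ t = (18 : ℂ)⁻¹ *
      ∑ p : Fin 3 × Fin 3 × Fin 2 × Fin 2 × Fin 2,
        extendByZero (Subgroup.centralizer ({x} : Set G)) φ
          (EN x y a b w p * t * (EN x y a b w p)⁻¹) := by
  have hcard : Nat.card (Subgroup.centralizer ({x} : Set G)) = 18 := (hNF cfg).2.2.2.2.2.2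
  show (Nat.card (Subgroup.centralizer ({x} : Set G)) : ℂ)⁻¹ *
      ∑ h : G, extendByZero (Subgroup.centralizer ({x} : Set G)) φ (h⁻¹ * t * h) = _
  rw [hcard]
  have hs : ∑ h : G, extendByZero (Subgroup.centralizer ({x} : Set G)) φ (h⁻¹ * t * h) =
      ∑ h : G, extendByZero (Subgroup.centralizer ({x} : Set G)) φ (h * t * h⁻¹) :=
    Fintype.sum_equiv (Equiv.inv G) _ _ (fun h => by simp)
  rw [hs, sum_N hNF cfg
    (fun h => extendByZero (Subgroup.centralizer ({x} : Set G)) φ (h * t * h⁻¹))]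
  · norm_num
  · intro h hN
    show extendByZero _ φ (h * t * h⁻¹) = 0
    unfold extendByZero
    apply Function.extend_apply'
    rintro ⟨⟨c, hc⟩, hce⟩
    have hce' : c = h * t * h⁻¹ := hce
    exact hN (supp hNF hTI cfg t i2 j2 ht2 hne h (hce' ▸ hc))

section
variable [Finite G]

theorem conj_x (hNF : D8Stmt.NF.{u}) (cfg : D8Stmt.Cfg T N x y a b w) (i j k l m : ℕ) :
    nf x y a b w i j k l m * nf x y a b w 1 0 0 0 0 * (nf x y a b w i j k l m)⁻¹ =
      if m % 2 = 0 then nf x y a b w (if k % 2 = 0 then 1 else 2) 0 0 0 0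
      else nf x y a b w 0 (if l % 2 = 0 then 1 else 2) 0 0 0 := by
  rw [mul_inv_eq_iff_eq_mul]
  by_cases hm : m % 2 = 0
  · rw [if_pos hm, nf_mul0 hNF cfg, nf_mul hNF cfg, if_pos hm]
    apply nf_eq cfg <;> (try split_ifs) <;> first | omega | contradiction
  · rw [if_neg hm, nf_mul0 hNF cfg, nf_mul hNF cfg, if_neg hm]
    apply nf_eq cfg <;> (try split_ifs) <;> first | omega | contradiction

theorem conj_xy (hNF : D8Stmt.NF.{u}) (cfg : D8Stmt.Cfg T N x y a b w) (i j k l m : ℕ) :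
    nf x y a b w i j k l m * nf x y a b w 1 1 0 0 0 * (nf x y a b w i j k l m)⁻¹ =
      nf x y a b w (if k % 2 = 0 then 1 else 2) (if l % 2 = 0 then 1 else 2) 0 0 0 := by
  rw [mul_inv_eq_iff_eq_mul]
  by_cases hm : m % 2 = 0
  · rw [nf_mul0 hNF cfg, nf_mul hNF cfg, if_pos hm]
    apply nf_eq cfg <;> (try split_ifs) <;> first | omega | contradiction
  · rw [nf_mul0 hNF cfg, nf_mul hNF cfg, if_neg hm]
    apply nf_eq cfg <;> (try split_ifs) <;> first | omega | contradiction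

theorem conj_xb (hNF : D8Stmt.NF.{u}) (cfg : D8Stmt.Cfg T N x y a b w) (i j k l m : ℕ) :
    nf x y a b w i j k l m * nf x y a b w 1 0 0 1 0 * (nf x y a b w i j k l m)⁻¹ =
      if m % 2 = 0 then nf x y a b w (if k % 2 = 0 then 1 else 2) (2 * j) 0 1 0
      else nf x y a b w (2 * i) (if l % 2 = 0 then 1 else 2) 1 0 0 := by
  rw [mul_inv_eq_iff_eq_mul]
  by_cases hm : m % 2 = 0
  · rw [if_pos hm, nf_mul0 hNF cfg, nf_mul hNF cfg, if_pos hm]
    apply nf_eq cfg <;> (try split_ifs) <;> first | omega | contradiction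
  · rw [if_neg hm, nf_mul0 hNF cfg, nf_mul hNF cfg, if_neg hm]
    apply nf_eq cfg <;> (try split_ifs) <;> first | omega | contradiction

/-- Conjugates of an element with odd `w`-exponent lie outside `C_G(x)`. -/
theorem zero_conj_w (hNF : D8Stmt.NF.{u}) (cfg : D8Stmt.Cfg T N x y a b w)
    (φ : Subgroup.centralizer ({x} : Set G) → ℂ) (i j k l m i0 j0 k0 l0 : ℕ) :
    extendByZero (Subgroup.centralizer ({x} : Set G)) φ
      (nf x y a b w i j k l m * nf x y a b w i0 j0 k0 l0 1 * (nf x y a b w i j k l m)⁻¹) = 0 := by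
  obtain ⟨-, -, -, -, hC, -, -⟩ := hNF cfg
  unfold extendByZero
  apply Function.extend_apply'
  rintro ⟨⟨c, hc⟩, hce⟩
  have hce' : c = nf x y a b w i j k l m * nf x y a b w i0 j0 k0 l0 1 *
      (nf x y a b w i j k l m)⁻¹ := hce
  obtain ⟨i', j', l', e⟩ := (hC c).1 hc
  have e2 : c = nf x y a b w i' j' 0 l' 0 := by rw [e]; simp [nf]
  have e3 : c * nf x y a b w i j k l m =
      nf x y a b w i j k l m * nf x y a b w i0 j0 k0 l0 1 := by
    rw [hce']; group
  rw [e2, nf_mul0 hNF cfg] at e3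
  obtain ⟨i'', j'', k'', l'', e4⟩ := nf_mul_w hNF cfg i j k l m i0 j0 k0 l0 1
  rw [e4] at e3
  have := (nf_uniq hNF cfg e3).2.2.2.2
  omega

theorem term_x (hNF : D8Stmt.NF.{u}) (cfg : D8Stmt.Cfg T N x y a b w)
    (φ : Subgroup.centralizer ({x} : Set G) → ℂ) (i j k l m : ℕ) :
    extendByZero (Subgroup.centralizer ({x} : Set G)) φ
      (nf x y a b w i j k l m * nf x y a b w 1 0 0 0 0 * (nf x y a b w i j k l m)⁻¹) =
    if m % 2 = 0 then
      (if k % 2 = 0 then extendByZero (Subgroup.centralizer ({x} : Set G)) φ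
          (nf x y a b w 1 0 0 0 0)
        else extendByZero (Subgroup.centralizer ({x} : Set G)) φ (nf x y a b w 2 0 0 0 0))
    else
      (if l % 2 = 0 then extendByZero (Subgroup.centralizer ({x} : Set G)) φ
          (nf x y a b w 0 1 0 0 0)
        else extendByZero (Subgroup.centralizer ({x} : Set G)) φ (nf x y a b w 0 2 0 0 0)) := by
  rw [conj_x hNF cfg]
  split_ifs <;> rfl

theorem term_xy (hNF : D8Stmt.NF.{u}) (cfg : D8Stmt.Cfg T N x y a b w)
    (φ : Subgroup.centralizer ({x} : Set G) → ℂ) (i j k l m : ℕ) :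
    extendByZero (Subgroup.centralizer ({x} : Set G)) φ
      (nf x y a b w i j k l m * nf x y a b w 1 1 0 0 0 * (nf x y a b w i j k l m)⁻¹) =
    if k % 2 = 0 then
      (if l % 2 = 0 then extendByZero (Subgroup.centralizer ({x} : Set G)) φ
          (nf x y a b w 1 1 0 0 0)
        else extendByZero (Subgroup.centralizer ({x} : Set G)) φ (nf x y a b w 1 2 0 0 0))
    else
      (if l % 2 = 0 then extendByZero (Subgroup.centralizer ({x} : Set G)) φ
          (nf x y a b w 2 1 0 0 0)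
        else extendByZero (Subgroup.centralizer ({x} : Set G)) φ (nf x y a b w 2 2 0 0 0)) := by
  rw [conj_xy hNF cfg]
  split_ifs <;> rfl

theorem term_xb (hNF : D8Stmt.NF.{u}) (cfg : D8Stmt.Cfg T N x y a b w)
    (φ : Subgroup.centralizer ({x} : Set G) → ℂ) (i j k l m : ℕ) :
    extendByZero (Subgroup.centralizer ({x} : Set G)) φ
      (nf x y a b w i j k l m * nf x y a b w 1 0 0 1 0 * (nf x y a b w i j k l m)⁻¹) =
    if m % 2 = 0 then
      (if k % 2 = 0 then extendByZero (Subgroup.centralizer ({x} : Set G)) φ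
          (nf x y a b w 1 (2 * j) 0 1 0)
        else extendByZero (Subgroup.centralizer ({x} : Set G)) φ (nf x y a b w 2 (2 * j) 0 1 0))
    else
      (if l % 2 = 0 then extendByZero (Subgroup.centralizer ({x} : Set G)) φ
          (nf x y a b w (2 * i) 1 1 0 0)
        else extendByZero (Subgroup.centralizer ({x} : Set G)) φ
          (nf x y a b w (2 * i) 2 1 0 0)) := by
  rw [conj_xb hNF cfg]
  split_ifs <;> rfl

theorem sq_x (hNF : D8Stmt.NF.{u}) (cfg : D8Stmt.Cfg T N x y a b w) :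
    nf x y a b w 1 0 0 0 0 * nf x y a b w 1 0 0 0 0 = nf x y a b w 2 0 0 0 0 := by
  rw [nf_mul0 hNF cfg]
  apply nf_eq cfg <;> simp

theorem sq_xy (hNF : D8Stmt.NF.{u}) (cfg : D8Stmt.Cfg T N x y a b w) :
    nf x y a b w 1 1 0 0 0 * nf x y a b w 1 1 0 0 0 = nf x y a b w 2 2 0 0 0 := by
  rw [nf_mul0 hNF cfg]
  apply nf_eq cfg <;> simp

theorem sq_xb (hNF : D8Stmt.NF.{u}) (cfg : D8Stmt.Cfg T N x y a b w) :
    nf x y a b w 1 0 0 1 0 * nf x y a b w 1 0 0 1 0 = nf x y a b w 2 0 0 0 0 := by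
  rw [nf_mul0 hNF cfg]
  apply nf_eq cfg <;> simp

theorem sq_xyw (hNF : D8Stmt.NF.{u}) (cfg : D8Stmt.Cfg T N x y a b w) :
    nf x y a b w 1 1 0 0 1 * nf x y a b w 1 1 0 0 1 = nf x y a b w 2 2 0 0 0 := by
  rw [nf_mul hNF cfg, if_neg (by norm_num)]
  apply nf_eq cfg <;> simp

end

theorem main (hNF : D8Stmt.NF.{u}) (hTI : D8Stmt.TI.{u}) : D8Stmt.VALB.{u} := by
  intro G _ _ T N x y a b w cfg f g hO
  have hω := om cfg f g hO
  have e1 : nf x y a b w 1 0 0 0 0 = x := by simp [nf]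
  have e2 : nf x y a b w 1 1 0 0 0 = x * y := by simp [nf]
  have e3 : nf x y a b w 1 0 0 1 0 = x * b := by simp [nf]
  have e4 : nf x y a b w 1 1 0 0 1 = x * y * w := by simp [nf]
  have k1 : indFun (Subgroup.centralizer ({x} : Set G)) (D8Stmt.ph2 x f g)
      (nf x y a b w 1 0 0 0 0) = 3 := by
    rw [ind_val hNF hTI cfg _ _ 2 0 (sq_x hNF cfg) (by norm_num)]
    simp only [EN, term_x hNF cfg, val2 hNF cfg f g hO]
    simp [Fintype.sum_prod_type, Fin.sum_univ_two]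
    linear_combination (-1 : ℂ) * hω
  have k2 : indFun (Subgroup.centralizer ({x} : Set G)) (D8Stmt.ph2 x f g)
      (nf x y a b w 1 1 0 0 0) = 6 := by
    rw [ind_val hNF hTI cfg _ _ 2 2 (sq_xy hNF cfg) (by norm_num)]
    simp only [EN, term_xy hNF cfg, val2 hNF cfg f g hO]
    simp [Fintype.sum_prod_type, Fin.sum_univ_two]
    linear_combination (-2 : ℂ) * hω
  have k3 : indFun (Subgroup.centralizer ({x} : Set G)) (D8Stmt.ph2 x f g)
      (nf x y a b w 1 0 0 1 0) = -3 := by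
    rw [ind_val hNF hTI cfg _ _ 2 0 (sq_xb hNF cfg) (by norm_num)]
    simp only [EN, term_xb hNF cfg, val2 hNF cfg f g hO]
    simp [Fintype.sum_prod_type, Fin.sum_univ_two]
    linear_combination (1 : ℂ) * hω
  have k4 : indFun (Subgroup.centralizer ({x} : Set G)) (D8Stmt.ph2 x f g)
      (nf x y a b w 1 1 0 0 1) = 0 := by
    rw [ind_val hNF hTI cfg _ _ 2 2 (sq_xyw hNF cfg) (by norm_num)]
    simp only [EN, zero_conj_w hNF cfg]
    simp
  rw [e1] at k1
  rw [e2] at k2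
  rw [e3] at k3
  rw [e4] at k4
  exact ⟨k1, k2, k3, k4⟩

theorem mainA (hNF : D8Stmt.NF.{u}) (hTI : D8Stmt.TI.{u}) : D8Stmt.VALA.{u} := by
  intro G _ _ T N x y a b w cfg f g hO
  have hω := om cfg f g hO
  have e1 : nf x y a b w 1 0 0 0 0 = x := by simp [nf]
  have e2 : nf x y a b w 1 1 0 0 0 = x * y := by simp [nf]
  have e3 : nf x y a b w 1 0 0 1 0 = x * b := by simp [nf]
  have e4 : nf x y a b w 1 1 0 0 1 = x * y * w := by simp [nf]
  have k1 : indFun (Subgroup.centralizer ({x} : Set G)) (D8Stmt.ph1 x f)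
      (nf x y a b w 1 0 0 0 0) = 3 := by
    rw [ind_val hNF hTI cfg _ _ 2 0 (sq_x hNF cfg) (by norm_num)]
    simp only [EN, term_x hNF cfg, val1 hNF cfg f g hO]
    simp [Fintype.sum_prod_type, Fin.sum_univ_two]
    linear_combination (-1 : ℂ) * hω
  have k2 : indFun (Subgroup.centralizer ({x} : Set G)) (D8Stmt.ph1 x f)
      (nf x y a b w 1 1 0 0 0) = 6 := by
    rw [ind_val hNF hTI cfg _ _ 2 2 (sq_xy hNF cfg) (by norm_num)]
    simp only [EN, term_xy hNF cfg, val1 hNF cfg f g hO]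
    simp [Fintype.sum_prod_type, Fin.sum_univ_two]
    linear_combination (-2 : ℂ) * hω
  have k3 : indFun (Subgroup.centralizer ({x} : Set G)) (D8Stmt.ph1 x f)
      (nf x y a b w 1 0 0 1 0) = 3 := by
    rw [ind_val hNF hTI cfg _ _ 2 0 (sq_xb hNF cfg) (by norm_num)]
    simp only [EN, term_xb hNF cfg, val1 hNF cfg f g hO]
    simp [Fintype.sum_prod_type, Fin.sum_univ_two]
    linear_combination (-1 : ℂ) * hω
  have k4 : indFun (Subgroup.centralizer ({x} : Set G)) (D8Stmt.ph1 x f)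
      (nf x y a b w 1 1 0 0 1) = 0 := by
    rw [ind_val hNF hTI cfg _ _ 2 2 (sq_xyw hNF cfg) (by norm_num)]
    simp only [EN, zero_conj_w hNF cfg]
    simp
  rw [e1] at k1
  rw [e2] at k2
  rw [e3] at k3
  rw [e4] at k4
  exact ⟨k1, k2, k3, k4⟩

end Cfsg.Agent.Lib.Helper51.D8VALB
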