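import Mathlib
import Cfsg.Agent.Lib.Helper75.DCStmt
import Cfsg.Agent.Lib.Helper51.DCCZ

set_option autoImplicit false

/-! S4719 piece TWO: a nontrivial `Γ`-normal 2-subgroup `T ≤ G`: with `A = Z(T)`, either one of
`v`, `w`, `v w` lies in `A` and `G / C_G(A)` embeds in `Sym(A)`, or the induction hypothesis
applies to `G / A`. -/

namespace Cfsg.Agent.Lib.Helper51.DCTWO

open Cfsg Cfsg.Agent.Lib.Helper75.DCStmt

universe u

theorem main (hQC : QC.{u}) : TWO.{u} := by
  intro a c N hKB Γ _ _ G v w hS hfac T hTn hTG hT2 hTne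
  classical
  haveI : Fact (Nat.Prime 2) := ⟨Nat.prime_two⟩
  haveI hGn : G.Normal := hS.normal
  haveI := hTn
  -- the centre of `T`
  obtain ⟨A, hA⟩ : ∃ A : Subgroup Γ, A = T ⊓ Subgroup.centralizer (T : Set Γ) := ⟨_, rfl⟩
  haveI hAn : A.Normal := by
    rw [hA]
    infer_instance
  have hAT : A ≤ T := by
    rw [hA]
    exact inf_le_left
  have hAG : A ≤ G := hAT.trans hTG
  have hAne : A ≠ ⊥ := by
    haveI : Nontrivial ↥T := by
      rw [Subgroup.nontrivial_iff_ne_bot]
      exact hTne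
    have hnt : Nontrivial (Subgroup.center ↥T) := hT2.center_nontrivial
    obtain ⟨t, ht⟩ := exists_ne (1 : Subgroup.center ↥T)
    intro hbot
    apply ht
    have hmem : ((t : ↥T) : Γ) ∈ A := by
      rw [hA, Subgroup.mem_inf]
      refine ⟨(t : ↥T).2, ?_⟩
      rw [Subgroup.mem_centralizer_iff]
      intro s hs
      have h1 := Subgroup.mem_center_iff.1 t.2 ⟨s, hs⟩
      exact congrArg Subtype.val h1
    rw [hbot, Subgroup.mem_bot] at hmem
    exact Subtype.ext (Subtype.ext hmem)
  have hA2 : IsPGroup 2 A := hT2.to_le hAT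
  obtain ⟨k, hk⟩ := (IsPGroup.iff_card (p := 2) (G := ↥A)).1 hA2
  have hk1 : 1 ≤ k := by
    rcases Nat.eq_zero_or_pos k with h | h
    · exfalso
      rw [h, pow_zero] at hk
      exact hAne (Subgroup.card_eq_one.1 hk)
    · exact h
  have hGpos : Nat.card ↥G ≠ 0 := Nat.card_pos.ne'
  have hAdvd : Nat.card ↥A ∣ Nat.card ↥G := Subgroup.card_dvd_of_le hAG
  have hka : k ≤ a + 1 := by
    rw [hk] at hAdvd
    exact ((Nat.Prime.pow_dvd_iff_le_factorization Nat.prime_two hGpos).1 hAdvd).trans hfac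
  have hAle : Nat.card ↥A ≤ 2 ^ (a + 1) := by
    rw [hk]
    exact Nat.pow_le_pow_right (by norm_num) hka
  by_cases hcase : ∃ x : Γ, (x = v ∨ x = w ∨ x = v * w) ∧ x ∈ A
  · -- `G / C_G(A)` embeds in `Sym(A)`
    obtain ⟨x, hx, hxA⟩ := hcase
    obtain ⟨φ, hφ⟩ : ∃ φ : ↥G →* MulAut ↥A, ∀ (g : ↥G) (t : ↥A),
        ((φ g t : ↥A) : Γ) = (g : Γ) * (t : Γ) * (g : Γ)⁻¹ :=
      ⟨(MulAut.conjNormal (H := A)).comp G.subtype, fun g t => MulAut.conjNormal_apply _ _⟩
    have h1 : Nat.card ↥φ.ker * Nat.card ↥φ.range = Nat.card ↥G := by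
      rw [← Subgroup.index_ker, Subgroup.card_mul_index]
    have h2 : Nat.card ↥φ.range ≤ (2 ^ (a + 1)).factorial := by
      have h3 : Nat.card ↥φ.range ≤ Nat.card (Equiv.Perm ↥A) := by
        let f : ↥φ.range → Equiv.Perm ↥A := fun e => (e : MulAut ↥A).toEquiv
        have hf : Function.Injective f := by
          intro e e' hee
          exact Subtype.ext (MulEquiv.toEquiv_injective hee)
        exact Nat.card_le_card_of_injective f hf
      rw [Nat.card_perm] at h3
      exact h3.trans (Nat.factorial_le hAle)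
    have h4 : Nat.card ↥φ.ker ≤ c := by
      refine le_trans ?_ (hS.cent x hx)
      have hmem : ∀ g : ↥φ.ker, (((g : ↥G)) : Γ) ∈ G ⊓ Subgroup.centralizer ({x} : Set Γ) := by
        intro g
        rw [Subgroup.mem_inf]
        refine ⟨(g : ↥G).2, ?_⟩
        rw [Subgroup.mem_centralizer_iff]
        intro t ht
        rw [Set.mem_singleton_iff] at ht
        rw [ht]
        have h5 : φ (g : ↥G) = 1 := MonoidHom.mem_ker.1 g.2
        have h6 := hφ (g : ↥G) ⟨x, hxA⟩
        rw [h5] at h6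
        have h7 : x = ((g : ↥G) : Γ) * x * ((g : ↥G) : Γ)⁻¹ := h6
        calc x * ((g : ↥G) : Γ) = (((g : ↥G) : Γ) * x * ((g : ↥G) : Γ)⁻¹) * ((g : ↥G) : Γ) := by
              rw [← h7]
          _ = ((g : ↥G) : Γ) * x := by rw [inv_mul_cancel_right]
      let f : ↥φ.ker → ↥(G ⊓ Subgroup.centralizer ({x} : Set Γ)) := fun g =>
        ⟨(((g : ↥G)) : Γ), hmem g⟩
      have hf : Function.Injective f := by
        intro g g' hgg
        have h8 := congrArg Subtype.val hgg
        exact Subtype.ext (Subtype.ext h8)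
      exact Nat.card_le_card_of_injective f hf
    have hfin : Nat.card ↥G ≤ c * (2 ^ (a + 1)).factorial := by
      rw [← h1]
      exact Nat.mul_le_mul h4 h2
    exact hfin.trans (Nat.le_add_right _ _)
  · -- the quotient by `A`
    have hvA : v ∉ A := fun h => hcase ⟨v, Or.inl rfl, h⟩
    have hwA : w ∉ A := fun h => hcase ⟨w, Or.inr (Or.inl rfl), h⟩
    have hvwA : v * w ∉ A := fun h => hcase ⟨v * w, Or.inr (Or.inr rfl), h⟩
    obtain ⟨π, hπ⟩ : ∃ π : Γ →* Γ ⧸ A, π = QuotientGroup.mk' A := ⟨_, rfl⟩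
    have hπsurj : Function.Surjective π := by
      rw [hπ]
      exact QuotientGroup.mk'_surjective A
    have hπone : ∀ y : Γ, π y = 1 ↔ y ∈ A := by
      intro y
      rw [hπ]
      exact QuotientGroup.eq_one_iff y
    have hcardmap : Nat.card ↥(G.map π) * Nat.card ↥A = Nat.card ↥G := by
      rw [hπ]
      exact Cfsg.Agent.Lib.Helper51.DCCZ.card_map_mk A G hAG
    have hcent : ∀ x : Γ, (x = v ∨ x = w ∨ x = v * w) →
        Nat.card ↥(G.map π ⊓ Subgroup.centralizer ({π x} : Set (Γ ⧸ A))) ≤ c := by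
      intro x hx
      have h1 := hQC Γ A G x hAG
      rw [← hπ] at h1
      exact h1.trans (hS.cent x hx)
    have hSet : Setting (G.map π) (π v) (π w) c := by
      refine ⟨hGn.map π hπsurj, ?_, ?_, ?_, ?_, ?_, ?_, ?_⟩
      · intro h
        exact hvA ((hπone v).1 h)
      · intro h
        exact hwA ((hπone w).1 h)
      · intro h
        have h0 : π (v * w) = 1 := by
          rw [map_mul, h, ← map_mul, hS.w_sq, map_one]
        exact hvwA ((hπone _).1 h0)
      · rw [← map_mul, hS.v_sq, map_one]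
      · rw [← map_mul, hS.w_sq, map_one]
      · rw [← map_mul, ← map_mul, hS.comm]
      · intro x hx
        rcases hx with rfl | rfl | rfl
        · exact hcent v (Or.inl rfl)
        · exact hcent w (Or.inr (Or.inl rfl))
        · rw [← map_mul]
          exact hcent (v * w) (Or.inr (Or.inr rfl))
    have hmappos : Nat.card ↥(G.map π) ≠ 0 := Nat.card_pos.ne'
    have hfac' : (Nat.card ↥(G.map π)).factorization 2 ≤ a := by
      have h2 : (Nat.card ↥G).factorization 2
          = (Nat.card ↥(G.map π)).factorization 2 + k := by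
        rw [← hcardmap, hk, Nat.factorization_mul hmappos (by positivity)]
        simp [Nat.Prime.factorization_self Nat.prime_two]
      omega
    have hfinal := hKB (Γ ⧸ A) (G.map π) (π v) (π w) hSet hfac'
    have hfin : Nat.card ↥G ≤ 2 ^ (a + 1) * N := by
      rw [← hcardmap, Nat.mul_comm (2 ^ (a + 1)) N]
      exact Nat.mul_le_mul hfinal hAle
    exact hfin.trans (Nat.le_add_left _ _)

end Cfsg.Agent.Lib.Helper51.DCTWO
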