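import Mathlib
import Cfsg.Agent.Lib.Helper40.GFStmt

/-!
# S5886, piece K2COMM

`h' = T * δ * T⁻¹ * δ⁻¹` (`δ` a norm-one dilation along `v`), then `u = h' * t * h'⁻¹` for the
transvection `t : x ↦ x + ((d * c₀) * ψ x) • v`.
-/

set_option autoImplicit false

namespace Cfsg.Agent.Lib.Helper51.GFK2COMM

open Cfsg.Agent.Lib.Helper40.GFStmt

universe u

section
variable {F L : Type u} [Field F] [Field L] [Algebra F L] {k : ℕ}

theorem apply_inv (g : V k L ≃ₗ[F] V k L) (x : V k L) : g (g⁻¹ x) = x := by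
  rw [← LinearEquiv.mul_apply, mul_inv_cancel]
  rfl

theorem inv_apply_eq (g : V k L ≃ₗ[F] V k L) {x y : V k L} (h : g y = x) : g⁻¹ x = y :=
  g.injective (by rw [apply_inv, h])

/-- if `g` moves every vector along `v`, so does `g⁻¹` -/
theorem inv_along (g : V k L ≃ₗ[F] V k L) (v : V k L)
    (h : ∀ x, ∃ l : L, g x = x + l • v) : ∀ x, ∃ l : L, g⁻¹ x = x + l • v := by
  intro x
  obtain ⟨l, hl⟩ := h (g⁻¹ x)
  rw [apply_inv] at hl
  have h2 : g⁻¹ x = x - l • v := eq_sub_of_add_eq hl.symm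
  exact ⟨-l, by rw [h2, neg_smul, sub_eq_add_neg]⟩

end

theorem main : K2Comm.{u} := by
  intro F L _ _ _ _ k c v ψ e b hv hψ hbe hT d c₀ hd
  obtain ⟨T, hT, hTv⟩ := hT
  have hA : ∀ a : L, (a - b a • e) + b (a - b a • e) • e = a := by
    intro a
    rw [map_sub, map_smul, hbe, smul_zero, sub_zero]
    abel
  have hTinv : ∀ a : L, T⁻¹ (a • v) = (a - b a • e) • v :=
    fun a => inv_apply_eq T (by rw [hTv, hA])
  obtain ⟨i, hi⟩ : ∃ i, v i ≠ 0 := by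
    by_contra hcon
    apply hv
    funext i
    by_contra hi
    exact hcon ⟨i, hi⟩
  obtain ⟨φ₁, hφ₁⟩ : ∃ φ₁ : V k L →ₗ[L] L, φ₁ v = 1 :=
    ⟨(v i)⁻¹ • LinearMap.proj i, by
      rw [LinearMap.smul_apply, LinearMap.proj_apply, smul_eq_mul, inv_mul_cancel₀ hi]⟩
  have hd0 : d ≠ 0 := by
    rintro rfl
    rw [Algebra.norm_zero] at hd
    exact zero_ne_one hd
  have hval : 1 + ((d - 1) • φ₁) v = d := by
    rw [LinearMap.smul_apply, hφ₁, smul_eq_mul, mul_one]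
    ring
  have hunit : IsUnit (1 + ((d - 1) • φ₁) v) := by
    rw [hval]
    exact isUnit_iff_ne_zero.2 hd0
  have hn : Algebra.norm F (1 + ((d - 1) • φ₁) v) = 1 := by
    rw [hval]
    exact hd
  obtain ⟨δ, hδ_def⟩ : ∃ δ : V k L ≃ₗ[F] V k L,
      δ = (LinearEquiv.dilatransvection hunit).restrictScalars F := ⟨_, rfl⟩
  have hδM : δ ∈ c.M := by
    rw [hδ_def]
    exact mem_dil c ((d - 1) • φ₁) v hunit hn
  have hδx : ∀ x, δ x = x + ((d - 1) * φ₁ x) • v := by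
    intro x
    rw [hδ_def]
    show (LinearEquiv.dilatransvection hunit) x = _
    rw [LinearEquiv.dilatransvection.apply, LinearMap.smul_apply, smul_eq_mul]
  have hδv : ∀ a : L, δ (a • v) = (d * a) • v := by
    intro a
    rw [hδx, map_smul, hφ₁, smul_eq_mul, mul_one, ← add_smul]
    congr 1
    ring
  have hδinv_v : ∀ a : L, δ⁻¹ (a • v) = (d⁻¹ * a) • v :=
    fun a => inv_apply_eq δ (by rw [hδv, ← mul_assoc, mul_inv_cancel₀ hd0, one_mul])
  have hδH : ∀ x, ∃ l : L, δ x = x + l • v := fun x => ⟨_, hδx x⟩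
  have hδinvH := inv_along δ v hδH
  have hh'M : T * δ * T⁻¹ * δ⁻¹ ∈ c.M :=
    c.M.mul_mem (c.M.mul_mem (c.M.mul_mem hT hδM) (c.M.inv_mem hT)) (c.M.inv_mem hδM)
  have hh'v : ∀ a : L, (T * δ * T⁻¹ * δ⁻¹) (a • v) =
      ((d * (d⁻¹ * a - b (d⁻¹ * a) • e)) + b (d * (d⁻¹ * a - b (d⁻¹ * a) • e)) • e) • v := by
    intro a
    rw [LinearEquiv.mul_apply, LinearEquiv.mul_apply, LinearEquiv.mul_apply, hδinv_v, hTinv,
      hδv, hTv]
  have hh'H : ∀ x, ∃ l : L, (T * δ * T⁻¹ * δ⁻¹) x = x + l • v := by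
    intro x
    obtain ⟨l₁, h1⟩ := hδinvH x
    obtain ⟨l₂, h2⟩ := hδH (T⁻¹ x)
    refine ⟨(l₂ + b l₂ • e) +
      ((d * (l₁ - b l₁ • e)) + b (d * (l₁ - b l₁ • e)) • e), ?_⟩
    rw [LinearEquiv.mul_apply, LinearEquiv.mul_apply, LinearEquiv.mul_apply, h1, map_add,
      hTinv, map_add, hδv, h2, map_add, map_add, apply_inv, hTv, hTv, add_assoc, ← add_smul]
  have hh'invH := inv_along (T * δ * T⁻¹ * δ⁻¹) v hh'H
  have h0 : ((d * c₀) • ψ) v = 0 := by rw [LinearMap.smul_apply, hψ, smul_zero]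
  obtain ⟨t, ht_def⟩ : ∃ t : V k L ≃ₗ[F] V k L,
      t = (LinearEquiv.transvection h0).restrictScalars F := ⟨_, rfl⟩
  have htM : t ∈ c.M := by
    rw [ht_def]
    exact mem_tv c ((d * c₀) • ψ) v h0
  have htx : ∀ x, t x = x + ((d * c₀) * ψ x) • v := by
    intro x
    rw [ht_def]
    show (LinearEquiv.transvection h0) x = _
    rw [LinearEquiv.transvection.apply, LinearMap.smul_apply, smul_eq_mul]
  refine ⟨(T * δ * T⁻¹ * δ⁻¹) * t * (T * δ * T⁻¹ * δ⁻¹)⁻¹,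
    c.M.mul_mem (c.M.mul_mem hh'M htM) (c.M.inv_mem hh'M), fun x => ?_⟩
  obtain ⟨l, hl⟩ := hh'invH x
  have hψx : ψ ((T * δ * T⁻¹ * δ⁻¹)⁻¹ x) = ψ x := by
    rw [hl, map_add, map_smul, hψ, smul_zero, add_zero]
  have hcan : d⁻¹ * (d * c₀ * ψ x) = c₀ * ψ x := by
    rw [mul_assoc, inv_mul_cancel_left₀ hd0]
  rw [LinearEquiv.mul_apply, LinearEquiv.mul_apply, htx, map_add, apply_inv, hψx, hh'v, hcan,
    nu_apply]

end Cfsg.Agent.Lib.Helper51.GFK2COMM
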