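import Mathlib
import Cfsg.Agent.Lib.Helper40.GFStmt

/-!
# S5886, piece Z1B

Generic argument (no case analysis in the field with four elements).  After composing with
`L`-linear maps, `h₁ ∈ c.M` fixes `e0 = (1, 0)` and maps `L e0` into itself:
`h₁ x = (A (x 0) + X (x 1), D (x 1))` with `F`-linear `A, X, D : L → L`, `A 1 = 1`.
* Conjugating the transvections `x ↦ x + (a * x 1) • e0`: `E(A ∘ m_a ∘ D⁻¹) ∈ c.M`.  If all of
  these are multiplications then `A` is multiplicative and `D (p * b) = A p * D b`.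
* Then `δ_(A p)⁻¹ * h₁ * δ_p * h₁⁻¹ = E(X ∘ m_(p - 1) ∘ D⁻¹)` for the dilations
  `δ_p x = (x 0, p * x 1)`.  If all of these are multiplications then `X = κ D` and `h₁` is
  `A`-semilinear, hence line preserving.
-/

set_option autoImplicit false

namespace Cfsg.Agent.Lib.Helper51.GFZ1B

open Cfsg.Agent.Lib.Helper40.GFStmt

universe u

section
variable {F L : Type u} [Field F] [Field L] [Algebra F L]

theorem apply_inv (g : V 2 L ≃ₗ[F] V 2 L) (x : V 2 L) : g (g⁻¹ x) = x := by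
  rw [← LinearEquiv.mul_apply, mul_inv_cancel]
  rfl

theorem inv_apply_eq (g : V 2 L ≃ₗ[F] V 2 L) {x y : V 2 L} (h : g y = x) : g⁻¹ x = y :=
  g.injective (by rw [apply_inv, h])

/-- the first basis vector -/
def e0 : V 2 L := ![1, 0]

/-- the second basis vector -/
def e1 : V 2 L := ![0, 1]

theorem decomp (x : V 2 L) : x = x 0 • (e0 : V 2 L) + x 1 • (e1 : V 2 L) := by
  ext i
  fin_cases i <;> simp [e0, e1]

theorem smul_e0 (a : L) : a • (e0 : V 2 L) = ![a, 0] := by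
  ext i
  fin_cases i <;> simp [e0]

theorem smul_e1 (a : L) : a • (e1 : V 2 L) = ![0, a] := by
  ext i
  fin_cases i <;> simp [e1]

/-- the coefficient maps of an `F`-linear map -/
def coef (g : V 2 L ≃ₗ[F] V 2 L) (u : V 2 L) (i : Fin 2) : L →ₗ[F] L where
  toFun a := g (a • u) i
  map_add' a b := by
    rw [add_smul, map_add]
    rfl
  map_smul' s a := by
    rw [smul_assoc, map_smul]
    rfl

theorem coef_apply (g : V 2 L ≃ₗ[F] V 2 L) (u : V 2 L) (i : Fin 2) (a : L) :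
    coef g u i a = g (a • u) i := rfl

theorem core [Finite L] (c : Ctx F L 2)
    (hall : ∀ ℓ : V 2 L ≃ₗ[L] V 2 L, ℓ.restrictScalars F ∈ c.M)
    (ω : L) (hω0 : ω ≠ 0) (hω1 : ω ≠ -1)
    (h₁ : V 2 L ≃ₗ[F] V 2 L) (hh₁ : h₁ ∈ c.M) (hnl : ¬ ∀ x, LineAt h₁ x)
    (hfix : h₁ e0 = e0) (hline : ∀ a : L, (h₁ (a • (e0 : V 2 L))) 1 = 0) :
    ∃ ν : L →ₗ[F] L, (∀ c' : L, ν ≠ LinearMap.mulLeft F c') ∧
      InSig c (e0 : V 2 L) (LinearMap.proj 1) ν := by
  obtain ⟨A, hA⟩ : ∃ A : L →ₗ[F] L, A = coef h₁ e0 0 := ⟨_, rfl⟩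
  obtain ⟨X, hX⟩ : ∃ X : L →ₗ[F] L, X = coef h₁ e1 0 := ⟨_, rfl⟩
  obtain ⟨D, hD⟩ : ∃ D : L →ₗ[F] L, D = coef h₁ e1 1 := ⟨_, rfl⟩
  -- coordinates of `h₁`
  have hLe0 : ∀ a : L, h₁ (a • (e0 : V 2 L)) = A a • (e0 : V 2 L) := by
    intro a
    rw [smul_e0 (A a)]
    ext i
    fin_cases i
    · rw [hA]; rfl
    · exact hline a
  have hLe1 : ∀ b : L, h₁ (b • (e1 : V 2 L)) = X b • (e0 : V 2 L) + D b • (e1 : V 2 L) := by
    intro b
    rw [smul_e0 (X b), smul_e1 (D b)]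
    ext i
    fin_cases i
    · rw [hX]; simp [coef_apply]
    · rw [hD]; simp [coef_apply]
  have hh : ∀ x : V 2 L, h₁ x = (A (x 0) + X (x 1)) • (e0 : V 2 L) + D (x 1) • (e1 : V 2 L) := by
    intro x
    conv_lhs => rw [decomp x]
    rw [map_add, hLe0, hLe1, add_smul, add_assoc]
  have hc1 : ∀ x : V 2 L, h₁ x 1 = D (x 1) := by
    intro x
    rw [hh x]
    simp [e0, e1]
  have hA1 : A 1 = 1 := by
    have h1 := hLe0 1
    rw [one_smul, hfix] at h1
    have h2 := congrFun h1 0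
    simpa [e0] using h2.symm
  -- `A` and `D` are bijective
  have hAinj : Function.Injective A := by
    rw [injective_iff_map_eq_zero]
    intro a ha
    have h1 := hLe0 a
    rw [ha, zero_smul] at h1
    have h2 : a • (e0 : V 2 L) = 0 := h₁.injective (by rw [h1, map_zero])
    have h3 := congrFun h2 0
    simpa [e0] using h3
  have hAsurj : Function.Surjective A := Finite.surjective_of_injective hAinj
  have hDinj : Function.Injective D := by
    rw [injective_iff_map_eq_zero]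
    intro b hb
    obtain ⟨a, ha⟩ := hAsurj (X b)
    have h1 : h₁ (a • (e0 : V 2 L)) = h₁ (b • (e1 : V 2 L)) := by
      rw [hLe0, hLe1, ha, hb, zero_smul, add_zero]
    have h2 := h₁.injective h1
    have h3 := congrFun h2 1
    simpa [e0, e1] using h3.symm
  have hDsurj : Function.Surjective D := Finite.surjective_of_injective hDinj
  obtain ⟨Dinv, hDinv⟩ : ∃ Dinv : L →ₗ[F] L, ∀ b, Dinv (D b) = b :=
    ⟨((LinearEquiv.ofBijective D ⟨hDinj, hDsurj⟩).symm : L →ₗ[F] L), fun b =>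
      (LinearEquiv.ofBijective D ⟨hDinj, hDsurj⟩).symm_apply_apply b⟩
  have hψe0 : (LinearMap.proj 1 : V 2 L →ₗ[L] L) (e0 : V 2 L) = 0 := by simp [e0]
  -- Step I: conjugates of transvections
  have hI : ∀ a : L, InSig c (e0 : V 2 L) (LinearMap.proj 1)
      (A ∘ₗ LinearMap.mulLeft F a ∘ₗ Dinv) := by
    intro a
    have h0 : (a • (LinearMap.proj 1 : V 2 L →ₗ[L] L)) (e0 : V 2 L) = 0 := by
      rw [LinearMap.smul_apply, hψe0, smul_zero]
    obtain ⟨t, ht_def⟩ : ∃ t : V 2 L ≃ₗ[F] V 2 L,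
        t = (LinearEquiv.transvection h0).restrictScalars F := ⟨_, rfl⟩
    have htM : t ∈ c.M := by
      rw [ht_def]
      exact mem_tv c _ _ h0
    have htx : ∀ x : V 2 L, t x = x + (a * x 1) • (e0 : V 2 L) := by
      intro x
      rw [ht_def]
      show (LinearEquiv.transvection h0) x = _
      rw [LinearEquiv.transvection.apply, LinearMap.smul_apply, LinearMap.proj_apply,
        smul_eq_mul]
    refine ⟨h₁ * t * h₁⁻¹, c.M.mul_mem (c.M.mul_mem hh₁ htM) (c.M.inv_mem hh₁), fun y => ?_⟩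
    have hy1 : Dinv (y 1) = (h₁⁻¹ y) 1 := by
      have := hc1 (h₁⁻¹ y)
      rw [apply_inv] at this
      rw [this, hDinv]
    rw [LinearEquiv.mul_apply, LinearEquiv.mul_apply, htx, map_add, apply_inv, hLe0,
      LinearMap.comp_apply, LinearMap.comp_apply, LinearMap.mulLeft_apply,
      LinearMap.proj_apply, hy1]
  by_cases hcase1 : ∃ a : L, ∀ c' : L,
      (A ∘ₗ LinearMap.mulLeft F a ∘ₗ Dinv) ≠ LinearMap.mulLeft F c'
  · obtain ⟨a, ha⟩ := hcase1
    exact ⟨_, ha, hI a⟩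
  -- all of them are multiplications
  have hf : ∀ a : L, ∃ f : L, ∀ b : L, A (a * b) = f * D b := by
    intro a
    by_contra hcon
    apply hcase1
    refine ⟨a, fun c' hc' => hcon ⟨c', fun b => ?_⟩⟩
    have := congrArg (fun φ : L →ₗ[F] L => φ (D b)) hc'
    simpa [hDinv] using this
  obtain ⟨f₁, hf₁⟩ := hf 1
  have hf₁' : ∀ b : L, A b = f₁ * D b := fun b => by
    have := hf₁ b
    rwa [one_mul] at this
  have hfD1 : f₁ * D 1 = 1 := by rw [← hf₁', hA1]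
  have hf₁0 : f₁ ≠ 0 := by
    rintro rfl
    rw [zero_mul] at hfD1
    exact zero_ne_one hfD1
  have hAmul : ∀ a b : L, A (a * b) = A a * A b := by
    intro a b
    obtain ⟨fa, hfa⟩ := hf a
    have e1 := hfa b
    have e2 := hfa 1
    rw [mul_one] at e2
    rw [e1, e2, hf₁' b]
    linear_combination (-(fa * D b)) * hfD1
  have hDmul : ∀ p b : L, D (p * b) = A p * D b := by
    intro p b
    have e1 := hAmul p b
    rw [hf₁' (p * b), hf₁' b] at e1
    have e2 : f₁ * D (p * b) = f₁ * (A p * D b) := by rw [e1]; ring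
    exact mul_left_cancel₀ hf₁0 e2
  have hψe1 : (LinearMap.proj 1 : V 2 L →ₗ[L] L) (e1 : V 2 L) = 1 := by simp [e1]
  -- Step II: dilations
  have hdil : ∀ p : L, p ≠ 0 → ∃ δ ∈ c.M,
      ∀ x : V 2 L, δ x = x + ((p - 1) * x 1) • (e1 : V 2 L) := by
    intro p hp
    have hval : 1 + ((p - 1) • (LinearMap.proj 1 : V 2 L →ₗ[L] L)) (e1 : V 2 L) = p := by
      rw [LinearMap.smul_apply, hψe1, smul_eq_mul, mul_one]
      ring
    have hunit : IsUnit (1 + ((p - 1) • (LinearMap.proj 1 : V 2 L →ₗ[L] L)) (e1 : V 2 L)) := by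
      rw [hval]
      exact isUnit_iff_ne_zero.2 hp
    refine ⟨(LinearEquiv.dilatransvection hunit).restrictScalars F, hall _, fun x => ?_⟩
    show (LinearEquiv.dilatransvection hunit) x = _
    rw [LinearEquiv.dilatransvection.apply, LinearMap.smul_apply, LinearMap.proj_apply,
      smul_eq_mul]
  have hII : ∀ p : L, p ≠ 0 → InSig c (e0 : V 2 L) (LinearMap.proj 1)
      (X ∘ₗ LinearMap.mulLeft F (p - 1) ∘ₗ Dinv) := by
    intro p hp
    have hAp : A p ≠ 0 := fun h => hp (hAinj (by rw [h, map_zero]))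
    obtain ⟨δ, hδM, hδ⟩ := hdil p hp
    obtain ⟨δ', hδ'M, hδ'⟩ := hdil (A p) hAp
    refine ⟨δ'⁻¹ * h₁ * δ * h₁⁻¹,
      c.M.mul_mem (c.M.mul_mem (c.M.mul_mem (c.M.inv_mem hδ'M) hh₁) hδM) (c.M.inv_mem hh₁),
      fun y => ?_⟩
    have hy1 : Dinv (y 1) = (h₁⁻¹ y) 1 := by
      have := hc1 (h₁⁻¹ y)
      rw [apply_inv] at this
      rw [this, hDinv]
    have hy1' : y 1 = D ((h₁⁻¹ y) 1) := by
      have := hc1 (h₁⁻¹ y)
      rwa [apply_inv] at this
    rw [LinearEquiv.mul_apply, LinearEquiv.mul_apply, LinearEquiv.mul_apply,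
      LinearMap.comp_apply, LinearMap.comp_apply, LinearMap.mulLeft_apply,
      LinearMap.proj_apply, hy1]
    apply inv_apply_eq
    rw [hδ', hδ, map_add, apply_inv, hLe1]
    have hz1 : (y + X ((p - 1) * (h₁⁻¹ y) 1) • (e0 : V 2 L)) 1 = y 1 := by
      simp [e0]
    rw [hz1]
    have hDsub : D ((p - 1) * (h₁⁻¹ y) 1) = (A p - 1) * y 1 := by
      rw [sub_mul, one_mul, map_sub, hDmul, ← hy1']
      ring
    rw [hDsub]
    abel
  by_cases hcase2 : ∃ p : L, p ≠ 0 ∧ ∀ c' : L,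
      (X ∘ₗ LinearMap.mulLeft F (p - 1) ∘ₗ Dinv) ≠ LinearMap.mulLeft F c'
  · obtain ⟨p, hp, hpc⟩ := hcase2
    exact ⟨_, hpc, hII p hp⟩
  exfalso
  have hκ : ∀ p : L, p ≠ 0 → ∃ κ : L, ∀ b : L, X ((p - 1) * b) = κ * D b := by
    intro p hp
    by_contra hcon
    apply hcase2
    refine ⟨p, hp, fun c' hc' => hcon ⟨c', fun b => ?_⟩⟩
    have := congrArg (fun φ : L →ₗ[F] L => φ (D b)) hc'
    simpa [hDinv] using this
  obtain ⟨κ₁, hκ₁⟩ := hκ (ω + 1) (fun h => hω1 (eq_neg_of_add_eq_zero_left h))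
  obtain ⟨κ₂, hκ₂⟩ := hκ (-ω) (neg_ne_zero.2 hω0)
  have hXD : ∀ b : L, X b = (-(κ₁ + κ₂)) * D b := by
    intro b
    have e1 := hκ₁ b
    have e2 := hκ₂ b
    have e3 : X b = -(X ((ω + 1 - 1) * b) + X ((-ω - 1) * b)) := by
      rw [← map_add, ← map_neg]
      congr 1
      ring
    rw [e3, e1, e2]
    ring
  apply hnl
  intro x a
  refine ⟨A a, ?_⟩
  rw [hh (a • x), hh x]
  have hx0 : (a • x) 0 = a * x 0 := rfl
  have hx1 : (a • x) 1 = a * x 1 := rfl
  rw [hx0, hx1, hAmul, hXD, hXD, hDmul, smul_add, smul_smul, smul_smul]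
  congr 2
  ring

end

theorem main (hT : GLTrans.{u}) : Z1B.{u} := by
  intro F L _ _ _ _ c hF hr h hhM hnl x₀ hx₀ hline
  have hF1 : ∀ s : F, s ≠ 0 → s = 1 := by
    obtain ⟨y, -, huniq⟩ := (Nat.card_eq_two_iff' (0 : F)).1 hF
    intro s hs
    rw [huniq s hs, huniq 1 one_ne_zero]
  have hall : ∀ ℓ : V 2 L ≃ₗ[L] V 2 L, ℓ.restrictScalars F ∈ c.M := by
    intro ℓ
    apply c.hsub
    apply hF1
    rw [Ne, Algebra.norm_eq_zero_iff]
    exact (LinearEquiv.isUnit_det' ℓ).ne_zero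
  -- an element outside `{0, -1}`
  obtain ⟨ω, hω0, hω1⟩ : ∃ ω : L, ω ≠ 0 ∧ ω ≠ -1 := by
    let b := Module.finBasisOfFinrankEq F L hr
    by_cases h0 : b 0 = -1
    · refine ⟨b 1, b.ne_zero 1, fun h1 => ?_⟩
      have : (0 : Fin 2) = 1 := b.injective (by rw [h0, h1])
      exact absurd this (by decide)
    · exact ⟨b 0, b.ne_zero 0, h0⟩
  have he0 : (e0 : V 2 L) ≠ 0 := by
    intro h0
    have := congrFun h0 0
    simp [e0] at this
  have hhx₀ : h x₀ ≠ 0 := fun h0 => hx₀ (h.injective (by rw [h0, map_zero]))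
  obtain ⟨ℓi, hℓi⟩ := hT L 2 (e0 : V 2 L) x₀ he0 hx₀
  obtain ⟨ℓo, hℓo⟩ := hT L 2 (h x₀) (e0 : V 2 L) hhx₀ he0
  have hh₁M : ℓo.restrictScalars F * h * ℓi.restrictScalars F ∈ c.M :=
    c.M.mul_mem (c.M.mul_mem (hall ℓo) hhM) (hall ℓi)
  have happ : ∀ x : V 2 L, (ℓo.restrictScalars F * h * ℓi.restrictScalars F) x =
      ℓo (h (ℓi x)) := fun x => rfl
  have hfix : (ℓo.restrictScalars F * h * ℓi.restrictScalars F) (e0 : V 2 L) = e0 := by
    rw [happ, hℓi, hℓo]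
  have hline' : ∀ a : L,
      ((ℓo.restrictScalars F * h * ℓi.restrictScalars F) (a • (e0 : V 2 L))) 1 = 0 := by
    intro a
    obtain ⟨a', ha'⟩ := hline a
    rw [happ, map_smul, hℓi, ha', map_smul, hℓo]
    simp [e0]
  have hnl' : ¬ ∀ x, LineAt (ℓo.restrictScalars F * h * ℓi.restrictScalars F) x := by
    intro hl
    apply hnl
    intro x a
    obtain ⟨a', ha'⟩ := hl (ℓi.symm x) a
    refine ⟨a', ?_⟩
    rw [happ, happ, map_smul, ℓi.apply_symm_apply] at ha'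
    apply ℓo.injective
    rw [ha', map_smul]
  obtain ⟨ν, hν, hsig⟩ := core c hall ω hω0 hω1 _ hh₁M hnl' hfix hline'
  refine ⟨e0, LinearMap.proj 1, ν, he0, ?_, by simp [e0], hν, hsig⟩
  intro h0
  have := congrArg (fun φ : V 2 L →ₗ[L] L => φ (e1 : V 2 L)) h0
  simp [e1] at this

end Cfsg.Agent.Lib.Helper51.GFZ1B
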