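import Mathlib
import Cfsg.Agent.Lib.Helper68.M11UStmt
import Cfsg.Agent.S0434
import Cfsg.Agent.S0435

/-!
# Piece INVERT of S0420: some involution inverts a given Sylow 3-subgroup
-/

set_option autoImplicit false

namespace Cfsg.Agent.Lib.Helper51.MUINVERT

open Cfsg Cfsg.Agent.Lib.Helper68.M11UStmt Cfsg.Agent.Lib.Helper92.M11Stmt

universe u

/-- the centralizer of an element of order 3 has order not divisible by 4 -/
theorem cent3 {G : Type u} [Group G] [Finite G] [IsSimpleGroup G] (hG : Nat.card G = 7920)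
    (y : G) (hy : orderOf y = 3) : ¬ 4 ∣ Nat.card (Subgroup.centralizer ({y} : Set G)) :=
  Cfsg.Agent.Lib.Helper92.M11Asm4.cent_three Cfsg.Agent.Lib.Helper92.M11EX.main
    Cfsg.Agent.Lib.Helper69.M11R11.main Cfsg.Agent.Lib.Helper69.M11R5.main
    Cfsg.Agent.Lib.Helper33.M11DIV.main Cfsg.Agent.Lib.Helper3.M11M4.main
    Cfsg.Agent.Lib.Helper59.M11I3.main hG y hy

/-- a Sylow 3-subgroup has order 9 -/
theorem card_syl3 {G : Type u} [Group G] [Finite G] (hG : Nat.card G = 7920) (P : Sylow 3 G) :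
    Nat.card (P : Subgroup G) = 9 := by
  have : Fact (Nat.Prime 3) := ⟨Nat.prime_three⟩
  obtain ⟨k, hk⟩ := IsPGroup.iff_card.mp P.isPGroup'
  have hmul := Subgroup.card_mul_index (P : Subgroup G)
  rw [hG, hk] at hmul
  have hidx : ¬ 3 ∣ (P : Subgroup G).index := P.not_dvd_index
  have hk3 : k < 3 := by
    by_contra hcon
    rw [not_lt] at hcon
    have h1 : 3 ^ 3 ∣ 3 ^ k := pow_dvd_pow 3 hcon
    have h2 : 3 ^ k ∣ 7920 := Dvd.intro _ hmul
    have h3 : (3 ^ 3 : ℕ) ∣ 7920 := dvd_trans h1 h2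
    norm_num at h3
  rw [hk]
  interval_cases k
  · exfalso; apply hidx; omega
  · exfalso; apply hidx; omega
  · norm_num

/-- powers of an element of order 3 -/
theorem eq_inv_of_pow {G : Type u} [Group G] (x y : G) (hx : orderOf x = 3) (n : ℕ)
    (hy : x ^ n = y) (h1 : y ≠ 1) (h2 : y ≠ x) : y = x⁻¹ := by
  have h3 : x ^ 3 = 1 := by rw [← hx]; exact pow_orderOf_eq_one x
  have hmod := pow_mod_orderOf x n
  rw [hx, hy] at hmod
  have hr : n % 3 = 0 ∨ n % 3 = 1 ∨ n % 3 = 2 := by omega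
  rcases hr with hr | hr | hr
  · rw [hr, pow_zero] at hmod; exact absurd hmod.symm h1
  · rw [hr, pow_one] at hmod; exact absurd hmod.symm h2
  · rw [hr] at hmod
    rw [← hmod]
    apply eq_inv_of_mul_eq_one_left
    rw [← pow_succ]; exact h3

theorem main : InvertT.{u} := by
  intro G _ _ _ hG P
  classical
  have : Fact (Nat.Prime 2) := ⟨Nat.prime_two⟩
  have : Fact (Nat.Prime 3) := ⟨Nat.prime_three⟩
  have hM11 : Cfsg.IsM11 G := ⟨inferInstance, hG⟩
  have hN : Nat.card (Subgroup.normalizer ((P : Subgroup G) : Set G)) = 144 :=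
    Cfsg.Agent.S0434.result hM11 P
  have hP9 : Nat.card (P : Subgroup G) = 9 := card_syl3 hG P
  -- `P` is abelian
  have hPab : ∀ a ∈ (P : Subgroup G), ∀ b ∈ (P : Subgroup G), a * b = b * a := by
    intro a ha b hb
    have h := (IsPGroup.isMulCommutative_of_card_eq_prime_sq (p := 3)
      (G := ↥(P : Subgroup G)) (by rw [hP9]; norm_num)).is_comm.comm ⟨a, ha⟩ ⟨b, hb⟩
    exact congrArg Subtype.val h
  -- a Sylow 2-subgroup `S` of the normalizer
  obtain ⟨K, hK⟩ := Sylow.exists_subgroup_card_pow_prime (G := ↥(Subgroup.normalizer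
    ((P : Subgroup G) : Set G))) 2 (n := 4) (by rw [hN]; norm_num)
  obtain ⟨S, hS⟩ : ∃ S : Subgroup G, S = K.map (Subgroup.normalizer
    ((P : Subgroup G) : Set G)).subtype := ⟨_, rfl⟩
  have hSN : S ≤ Subgroup.normalizer ((P : Subgroup G) : Set G) := by
    rw [hS]; exact Subgroup.map_subtype_le K
  have hS16 : Nat.card S = 16 := by
    rw [hS, Subgroup.card_subtype, hK]; norm_num
  have hSp : IsPGroup 2 S := IsPGroup.of_card (n := 4) (by rw [hS16]; norm_num)
  haveI : Nontrivial S := by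
    rw [← Finite.one_lt_card_iff_nontrivial, hS16]; norm_num
  haveI := hSp.center_nontrivial
  -- an involution in the centre of `S`
  have h2dvd : 2 ∣ Nat.card (Subgroup.center S) := by
    obtain ⟨j, hj⟩ := IsPGroup.iff_card.mp (hSp.to_subgroup (Subgroup.center S))
    have h1 : 1 < Nat.card (Subgroup.center S) := Finite.one_lt_card_iff_nontrivial.mpr inferInstance
    rw [hj] at h1 ⊢
    cases j with
    | zero => simp at h1
    | succ j => exact Dvd.intro_left _ (pow_succ 2 j).symm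
  obtain ⟨z, hz⟩ := exists_prime_orderOf_dvd_card' 2 h2dvd
  obtain ⟨t, ht⟩ : ∃ t : G, t = ((z : S) : G) := ⟨_, rfl⟩
  have htS : t ∈ S := by rw [ht]; exact (z : S).2
  have hto : orderOf t = 2 := by
    rw [ht, Subgroup.orderOf_coe, Subgroup.orderOf_coe]; exact hz
  have htS' : ∀ s ∈ S, s * t = t * s := by
    intro s hs
    have h := Subgroup.mem_center_iff.mp z.2 ⟨s, hs⟩
    rw [ht]
    exact congrArg Subtype.val h
  have ht2 : t * t = 1 := by
    have := pow_orderOf_eq_one t
    rw [hto, pow_two] at this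
    exact this
  have htinv : t⁻¹ = t := inv_eq_of_mul_eq_one_left ht2
  -- elements of `S` normalize `P`
  have hSnorm : ∀ s ∈ S, ∀ x ∈ (P : Subgroup G), s * x * s⁻¹ ∈ (P : Subgroup G) := by
    intro s hs x hx
    exact (Subgroup.mem_normalizer_iff.mp (hSN hs) x).mp hx
  refine ⟨t, hto, ?_⟩
  -- the fixed points of `t` on `P`
  obtain ⟨Pp, hPp⟩ : ∃ Pp : Subgroup G, Pp = (P : Subgroup G) ⊓
    Subgroup.centralizer ({t} : Set G) := ⟨_, rfl⟩
  have hPpP : Pp ≤ (P : Subgroup G) := by rw [hPp]; exact inf_le_left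
  have hPpC : Pp ≤ Subgroup.centralizer ({t} : Set G) := by rw [hPp]; exact inf_le_right
  have hmemPp : ∀ x : G, x ∈ Pp ↔ x ∈ (P : Subgroup G) ∧ t * x = x * t := by
    intro x
    rw [hPp, Subgroup.mem_inf, Subgroup.mem_centralizer_iff]
    constructor
    · rintro ⟨h1, h2⟩; exact ⟨h1, h2 t rfl⟩
    · rintro ⟨h1, h2⟩
      refine ⟨h1, ?_⟩
      intro h hh
      rw [Set.mem_singleton_iff] at hh
      rw [hh]; exact h2
  have hdvd9 : Nat.card Pp ∣ 3 ^ 2 := by
    have := Subgroup.card_dvd_of_le hPpP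
    rw [hP9] at this
    norm_num; exact this
  obtain ⟨k, hk2, hk⟩ := (Nat.dvd_prime_pow Nat.prime_three).1 hdvd9
  have hCt : Nat.card (Subgroup.centralizer ({t} : Set G)) = 48 :=
    Cfsg.Agent.S0435.result hM11 t hto
  interval_cases k
  · -- trivial fixed points: `t` inverts `P`
    have hbot : Pp = ⊥ := Subgroup.card_eq_one.mp (by rw [hk]; norm_num)
    intro x hx
    have hx' : t * x * t⁻¹ ∈ (P : Subgroup G) := hSnorm t htS x hx
    have hy : x * (t * x * t⁻¹) ∈ Pp := by
      rw [hmemPp]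
      refine ⟨(P : Subgroup G).mul_mem hx hx', ?_⟩
      have hc := hPab x hx (t * x * t⁻¹) hx'
      rw [htinv] at hc ⊢
      calc t * (x * (t * x * t)) = (t * x * t * x) * t := by group
        _ = x * (t * x * t) * t := by rw [← hc]
    rw [hbot, Subgroup.mem_bot] at hy
    exact eq_inv_of_mul_eq_one_right hy
  · -- fixed points of order 3
    exfalso
    obtain ⟨x, hx⟩ := exists_prime_orderOf_dvd_card' (G := ↥Pp) 3 (by rw [hk]; norm_num)
    obtain ⟨x0, hx0⟩ : ∃ x0 : G, x0 = (x : G) := ⟨_, rfl⟩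
    have hx0o : orderOf x0 = 3 := by rw [hx0, Subgroup.orderOf_coe]; exact hx
    have hx01 : x ≠ 1 := by
      intro h; rw [h, orderOf_one] at hx; omega
    have hx0Pp : x0 ∈ Pp := by rw [hx0]; exact x.2
    have hx0mem := (hmemPp x0).mp hx0Pp
    -- conjugates of `x0` under `S`
    have hconj : ∀ s ∈ S, s * x0 ≠ x0 * s → s * x0 * s⁻¹ = x0⁻¹ := by
      intro s hs hne
      have hmem : s * x0 * s⁻¹ ∈ Pp := by
        rw [hmemPp]
        refine ⟨hSnorm s hs x0 hx0mem.1, ?_⟩
        have h1 := htS' s hs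
        have h2 := hx0mem.2
        have h3 : s⁻¹ * t = t * s⁻¹ := by
          calc s⁻¹ * t = s⁻¹ * (t * s) * s⁻¹ := by group
            _ = s⁻¹ * (s * t) * s⁻¹ := by rw [h1]
            _ = t * s⁻¹ := by group
        calc t * (s * x0 * s⁻¹) = (t * s) * x0 * s⁻¹ := by group
          _ = s * (t * x0) * s⁻¹ := by rw [← h1]; group
          _ = s * x0 * (t * s⁻¹) := by rw [h2]; group
          _ = s * x0 * s⁻¹ * t := by rw [← h3]; group
      obtain ⟨n, hn⟩ := mem_powers_of_prime_card (G := ↥Pp) (p := 3) (by rw [hk]; norm_num) hx01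
        (g' := ⟨s * x0 * s⁻¹, hmem⟩)
      have hn' : x0 ^ n = s * x0 * s⁻¹ := by
        have h : ((x ^ n : ↥Pp) : G) = s * x0 * s⁻¹ := congrArg Subtype.val hn
        rw [Subgroup.coe_pow, ← hx0] at h
        exact h
      refine eq_inv_of_pow x0 _ hx0o n hn' ?_ ?_
      · intro h
        have : x0 = 1 := by
          have h' : s⁻¹ * (s * x0 * s⁻¹) * s = s⁻¹ * 1 * s := by rw [h]
          simpa [mul_assoc] using h'
        rw [this, orderOf_one] at hx0o; omega
      · intro h
        apply hne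
        have h' : s * x0 * s⁻¹ * s = x0 * s := by rw [h]
        simpa [mul_assoc] using h'
    obtain ⟨S0, hS0⟩ : ∃ S0 : Subgroup G, S0 = S ⊓ Subgroup.centralizer ({x0} : Set G) :=
      ⟨_, rfl⟩
    have hmemS0 : ∀ s : G, s ∈ S0 ↔ s ∈ S ∧ s * x0 = x0 * s := by
      intro s
      rw [hS0, Subgroup.mem_inf, Subgroup.mem_centralizer_iff]
      constructor
      · rintro ⟨h1, h2⟩; exact ⟨h1, (h2 x0 rfl).symm⟩
      · rintro ⟨h1, h2⟩
        refine ⟨h1, ?_⟩
        intro h hh
        rw [Set.mem_singleton_iff] at hh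
        rw [hh]; exact h2.symm
    have hS0S : S0 ≤ S := by rw [hS0]; exact inf_le_left
    have hS0C : S0 ≤ Subgroup.centralizer ({x0} : Set G) := by rw [hS0]; exact inf_le_right
    -- `S0` has index at most 2 in `S`
    have hle : Nat.card S ≤ 2 * Nat.card S0 := by
      by_cases hall : ∀ s ∈ S, s * x0 = x0 * s
      · have : S ≤ S0 := fun s hs => (hmemS0 s).mpr ⟨hs, hall s hs⟩
        have := Nat.le_of_dvd Nat.card_pos (Subgroup.card_dvd_of_le this)
        omega
      · obtain ⟨s1, hs1'⟩ := not_forall.mp hall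
        obtain ⟨hs1, hs1ne⟩ := Classical.not_imp.mp hs1'
        have hsub : (S : Set G) ⊆ (S0 : Set G) ∪ (fun g => s1 * g) '' (S0 : Set G) := by
          intro s hs
          by_cases hc : s * x0 = x0 * s
          · left; exact (hmemS0 s).mpr ⟨hs, hc⟩
          · right
            refine ⟨s1⁻¹ * s, (hmemS0 _).mpr ⟨S.mul_mem (S.inv_mem hs1) hs, ?_⟩, by group⟩
            have e1 := hconj s hs hc
            have e2 := hconj s1 hs1 hs1ne
            have e3 : s1⁻¹ * (s * x0 * s⁻¹) * s1 = x0 := by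
              rw [e1, ← e2]; group
            calc s1⁻¹ * s * x0 = s1⁻¹ * (s * x0 * s⁻¹) * s1 * (s1⁻¹ * s) := by group
              _ = x0 * (s1⁻¹ * s) := by rw [e3]
        have h1 : (S : Set G).ncard ≤ ((S0 : Set G) ∪ (fun g => s1 * g) '' (S0 : Set G)).ncard :=
          Set.ncard_le_ncard hsub (Set.toFinite _)
        have h2 := Set.ncard_union_le (S0 : Set G) ((fun g => s1 * g) '' (S0 : Set G))
        have h3 := Set.ncard_image_le (f := fun g => s1 * g) (Set.toFinite (S0 : Set G))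
        have h4 : (S : Set G).ncard = Nat.card S := rfl
        have h5 : (S0 : Set G).ncard = Nat.card S0 := rfl
        omega
    have hd16 : Nat.card S0 ∣ 2 ^ 4 := by
      have := Subgroup.card_dvd_of_le hS0S
      rw [hS16] at this
      norm_num; exact this
    obtain ⟨j, hj4, hj⟩ := (Nat.dvd_prime_pow Nat.prime_two).1 hd16
    have h4 : 4 ∣ Nat.card S0 := by
      rw [hS16] at hle
      rw [hj] at hle ⊢
      interval_cases j <;> omega
    exact cent3 hG x0 hx0o (dvd_trans h4 (Subgroup.card_dvd_of_le hS0C))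
  · -- `P` centralizes `t`
    exfalso
    have := Subgroup.card_dvd_of_le hPpC
    rw [hk, hCt] at this
    omega

end Cfsg.Agent.Lib.Helper51.MUINVERT
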