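import Mathlib
import Cfsg.Agent.Lib.Helper27.McStmt

set_option autoImplicit false

/-! S2132 piece PSI: the action of the centraliser on the invariant totally singular subspace. -/

namespace Cfsg.Agent.Lib.Helper51.McPSI

open Cfsg Cfsg.Agent.Lib.Helper27.McStmt
open scoped Matrix

set_option maxRecDepth 100000 in
theorem Ew_Pw : Ew * Pw = 1 := by
  decide +kernel

set_option maxRecDepth 100000 in
/-- the column space of `Pw` is its own orthogonal complement -/
theorem perp : ∀ v : V8, (∀ k : Fin 4, ∑ i : I8, v i * Pw i.swap k = 0) →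
    ∃ c : Fin 4 → ZMod 2, v = Pw *ᵥ c := by
  decide +kernel

/-- the polar form -/
theorem quad_add (c d : V8) : Cfsg.quadFormPlus 4 (ZMod 2) (c + d)
    = Cfsg.quadFormPlus 4 (ZMod 2) c + Cfsg.quadFormPlus 4 (ZMod 2) d + ∑ i, c i * d i.swap := by
  unfold Cfsg.quadFormPlus
  rw [Fintype.sum_sum_type (fun i => c i * d i.swap)]
  simp only [Pi.add_apply, Sum.swap_inl, Sum.swap_inr, Finset.sum_add_distrib, add_mul, mul_add]
  have h : ∑ a : Fin 4, d (Sum.inl a) * c (Sum.inr a)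
      = ∑ a : Fin 4, c (Sum.inr a) * d (Sum.inl a) :=
    Finset.sum_congr rfl fun a _ => mul_comm _ _
  rw [h]
  ring

/-- an isometry fixing the column space of `Pw` pointwise has square one -/
theorem sq_one (M : M8)
    (hQ : ∀ u : V8, Cfsg.quadFormPlus 4 (ZMod 2) (M *ᵥ u) = Cfsg.quadFormPlus 4 (ZMod 2) u)
    (hW : M * Pw = Pw) : M * M = 1 := by
  have hb : ∀ u v : V8, ∑ i, (M *ᵥ u) i * (M *ᵥ v) i.swap = ∑ i, u i * v i.swap := by
    intro u v
    have h1 := hQ (u + v)
    rw [Matrix.mulVec_add, quad_add, quad_add, hQ u, hQ v] at h1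
    exact add_left_cancel h1
  have hcol : ∀ k : Fin 4, M *ᵥ (fun i => Pw i k) = (fun i => Pw i k) := by
    intro k
    funext i
    have h1 := congrFun (congrFun hW i) k
    rw [Matrix.mul_apply] at h1
    rw [← h1]
    rfl
  rw [Matrix.ext_iff_mulVec]
  intro x
  rw [Matrix.one_mulVec]
  obtain ⟨y, hy⟩ : ∃ y : V8, y = M *ᵥ x + x := ⟨_, rfl⟩
  have hperp : ∀ k : Fin 4, ∑ i : I8, y i * Pw i.swap k = 0 := by
    intro k
    have h1 : ∑ i : I8, y i * Pw i.swap k
        = ∑ i : I8, (M *ᵥ x) i * (M *ᵥ (fun i => Pw i k)) i.swap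
          + ∑ i : I8, x i * (fun i => Pw i k) i.swap := by
      rw [hcol k, ← Finset.sum_add_distrib]
      apply Finset.sum_congr rfl
      intro i _
      rw [hy, Pi.add_apply, add_mul]
    rw [h1, hb]
    exact CharTwo.add_self_eq_zero _
  obtain ⟨c, hc⟩ := perp y hperp
  have hMy : M *ᵥ y = y := by
    rw [hc, Matrix.mulVec_mulVec, hW]
  rw [hy, Matrix.mulVec_add] at hMy
  rw [← Matrix.mulVec_mulVec]
  have h2 : M *ᵥ (M *ᵥ x) + M *ᵥ x = x + M *ᵥ x := by
    rw [hMy, add_comm]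
  exact add_right_cancel h2

theorem main : Cfsg.Agent.Lib.Helper27.McStmt.Psi := by
  intro C _ φ hφ
  obtain ⟨M, hM⟩ : ∃ M : C → M8,
      ∀ g, M g = ((φ g : Matrix.GeneralLinearGroup I8 (ZMod 2)) : M8) := ⟨_, fun _ => rfl⟩
  have hM1 : M 1 = 1 := by
    rw [hM, map_one]
    rfl
  have hMmul : ∀ g h, M (g * h) = M g * M h := by
    intro g h
    rw [hM, hM, hM, map_mul]
    rfl
  have hstab : ∀ g, M g * Pw = Pw * (Ew * M g * Pw) := by
    intro g
    choose c hc using hφ g
    have h1 : M g * Pw = Pw * Matrix.of (fun l k => c k l) := by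
      ext i k
      have h2 := congrFun (hc k) i
      rw [← hM] at h2
      rw [Matrix.mul_apply, Matrix.mul_apply]
      exact h2
    calc M g * Pw = Pw * Matrix.of (fun l k => c k l) := h1
      _ = Pw * ((Ew * Pw) * Matrix.of (fun l k => c k l)) := by rw [Ew_Pw, Matrix.one_mul]
      _ = Pw * (Ew * (Pw * Matrix.of (fun l k => c k l))) := by rw [Matrix.mul_assoc]
      _ = Pw * (Ew * (M g * Pw)) := by rw [← h1]
      _ = Pw * (Ew * M g * Pw) := by rw [Matrix.mul_assoc]
  obtain ⟨A, hA⟩ : ∃ A : C → M4, ∀ g, A g = Ew * M g * Pw := ⟨_, fun _ => rfl⟩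
  have hA1 : A 1 = 1 := by
    rw [hA, hM1, Matrix.mul_one, Ew_Pw]
  have hAmul : ∀ g h, A (g * h) = A g * A h := by
    intro g h
    rw [hA, hA, hMmul]
    calc Ew * (M g * M h) * Pw = Ew * M g * (M h * Pw) := by
          simp only [Matrix.mul_assoc]
      _ = Ew * M g * (Pw * (Ew * M h * Pw)) := by rw [← hstab h]
      _ = Ew * M g * Pw * A h := by rw [hA]; simp only [Matrix.mul_assoc]
  have hdet : ∀ g, (A g).det = 1 := by
    intro g
    have h1 : (A g).det * (A g⁻¹).det = 1 := by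
      rw [← Matrix.det_mul, ← hAmul, mul_inv_cancel, hA1, Matrix.det_one]
    have h2 : ∀ x y : ZMod 2, x * y = 1 → x = 1 := by decide
    exact h2 _ _ h1
  obtain ⟨ψ, hψ⟩ : ∃ ψ : C →* SL4, ∀ g, ((ψ g : SL4) : M4) = A g :=
    ⟨{ toFun := fun g => ⟨A g, hdet g⟩
       map_one' := Subtype.ext hA1
       map_mul' := fun g h => Subtype.ext (hAmul g h) }, fun _ => rfl⟩
  refine ⟨ψ, ?_, ?_⟩
  · intro g
    rw [hψ, hA, hM]
  · intro g hg
    have h1 : A g = 1 := by
      rw [← hψ, hg]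
      rfl
    have hW : M g * Pw = Pw := by
      rw [hstab g, ← hA, h1, Matrix.mul_one]
    have hQ : ∀ u : V8, Cfsg.quadFormPlus 4 (ZMod 2) (M g *ᵥ u)
        = Cfsg.quadFormPlus 4 (ZMod 2) u := by
      intro u
      rw [hM]
      exact (φ g).2 u u
    have h2 := sq_one (M g) hQ hW
    apply Subtype.ext
    apply Units.ext
    rw [Subgroup.coe_mul, Units.val_mul, Subgroup.coe_one, Units.val_one, ← hM]
    exact h2

end Cfsg.Agent.Lib.Helper51.McPSI
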