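import Mathlib
import Cfsg.Agent.Lib.Helper89.NCStmt
import Cfsg.Agent.Lib.Helper51.NCBase
import Cfsg.Agent.S3917
import Cfsg.Agent.S3918
import Cfsg.Agent.S3031
import Cfsg.Agent.S0071

/-!
# S3921 piece HASINV: a nonabelian simple `NC`-group has an involution

`r` the smallest prime divisor of the order (odd if there is no involution), `R` a Sylow
`r`-subgroup: `R` is cyclic (S3031), or of order dividing `r ^ 2`, or nonabelian of order `r ^ 3`
(S3917, S3918), and then EVENB and the theorem of Frobenius (S0071) give a normal `r`-complement.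
-/

set_option autoImplicit false

namespace Cfsg.Agent.Lib.Helper51.NCHASINV

open Cfsg.Agent.Lib.Helper89.NCStmt Cfsg.Agent.Lib.Helper51.NCBase

universe u

theorem main : Cfsg.Agent.Lib.Helper89.NCStmt.HasInv.{u} := by
  intro hEvenB G _ _ _ hnab hNC
  classical
  by_contra hno
  have hno' : ∀ u : G, orderOf u ≠ 2 := fun u hu => hno ⟨u, hu⟩
  have hodd : ¬ 2 ∣ Nat.card G := by
    intro h
    have : Fact (Nat.Prime 2) := ⟨Nat.prime_two⟩
    obtain ⟨x, hx⟩ := exists_prime_orderOf_dvd_card' 2 h
    exact hno' x hx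
  have hcard1 : Nat.card G ≠ 1 := by
    have := Finite.one_lt_card (α := G)
    omega
  set r := (Nat.card G).minFac with hr
  have hrp : r.Prime := Nat.minFac_prime hcard1
  have : Fact r.Prime := ⟨hrp⟩
  have hrdvd : r ∣ Nat.card G := Nat.minFac_dvd _
  have hr2 : r ≠ 2 := by
    intro h
    rw [h] at hrdvd
    exact hodd hrdvd
  have hrodd : Odd r := hrp.odd_of_ne_two hr2
  have hmin : ∀ q : ℕ, q.Prime → q ∣ Nat.card G → r ≤ q :=
    fun q hq hqd => Nat.minFac_le_of_dvd hq.two_le hqd
  let R : Sylow r G := default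
  have hRnc : NC ↥(R : Subgroup G) := nc_subgroup hNC R
  -- a normal `r`-complement exists
  have hcompl : ∃ (P : Sylow r G) (N : Subgroup G), N.Normal ∧ N.IsComplement' (P : Subgroup G) := by
    have hstruct : IsCyclic ↥(R : Subgroup G) ∨ Nat.card ↥(R : Subgroup G) ∣ r ^ 2 ∨
        (Nat.card ↥(R : Subgroup G) = r ^ 3 ∧ ¬ IsMulCommutative ↥(R : Subgroup G)) := by
      by_cases hab : IsMulCommutative ↥(R : Subgroup G)
      · let _ : CommGroup ↥(R : Subgroup G) :=
          { (inferInstance : Group ↥(R : Subgroup G)) with mul_comm := hab.is_comm.comm }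
        rcases Cfsg.Agent.S3917.result (G := ↥(R : Subgroup G)) hRnc with h | ⟨p, hp, hcard, -⟩
        · exact Or.inl h
        · right
          left
          obtain ⟨k, hk⟩ := IsPGroup.iff_card.mp R.isPGroup'
          have h1 : p ∣ r ^ k := by
            rw [← hk, hcard]
            exact dvd_pow_self p (by norm_num)
          have h2 : p = r := (Nat.prime_dvd_prime_iff_eq hp hrp).mp (hp.dvd_of_dvd_pow h1)
          rw [hcard, h2]
      · right
        right
        exact ⟨(Cfsg.Agent.S3918.result hr2 R.isPGroup' hab).mp hRnc, hab⟩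
    rcases hstruct with hcyc | hRs
    · exact Cfsg.Agent.S3031.result hrdvd hmin R (Or.inl hcyc)
    · refine ⟨R, (Cfsg.Agent.S0071.result R).mpr ?_⟩
      intro Q hQR g hg hcop
      have hQcard : Nat.card ↥Q ∣ r ^ 2 ∨ (Nat.card ↥Q = r ^ 3 ∧ ¬ IsMulCommutative ↥Q) := by
        rcases hRs with h | ⟨h3, hna⟩
        · left
          exact (Subgroup.card_dvd_of_le hQR).trans h
        · by_cases hQeq : Q = (R : Subgroup G)
          · right
            rw [hQeq]
            exact ⟨h3, hna⟩
          · left
            have hd : Nat.card ↥Q ∣ r ^ 3 := h3 ▸ Subgroup.card_dvd_of_le hQR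
            obtain ⟨j, hj, hQj⟩ := (Nat.dvd_prime_pow hrp).mp hd
            have hj3 : j ≠ 3 := by
              rintro rfl
              exact hQeq (Subgroup.eq_of_le_of_card_ge hQR (by rw [h3, hQj]))
            rw [hQj]
            exact pow_dvd_pow r (by omega)
      set n := orderOf g with hn
      have hn0 : n ≠ 0 := (orderOf_pos g).ne'
      set C' : Subgroup G := Subgroup.centralizer (Q : Set G) ⊓ Subgroup.zpowers g with hC'
      have hdvd : n ∣ Nat.card ↥C' := by
        rw [Nat.dvd_iff_prime_pow_dvd_dvd]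
        intro s k hs hsk
        by_cases hk0 : k = 0
        · subst hk0
          simp
        have hsn : s ∣ n := dvd_trans (dvd_pow_self s hk0) hsk
        have hsG : s ∣ Nat.card G := hsn.trans (orderOf_dvd_natCard g)
        have hsr : s ≠ r := by
          intro hsr
          rw [hsr] at hsn
          have h1 := Nat.Coprime.eq_one_of_dvd hcop.symm hsn
          exact hrp.one_lt.ne' h1
        have hrs : r < s := lt_of_le_of_ne (hmin s hs hsG) (Ne.symm hsr)
        have hgsord : orderOf (g ^ (n / s ^ k)) = s ^ k := orderOf_pow_orderOf_div hn0 hsk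
        have hgsN : g ^ (n / s ^ k) ∈ Subgroup.normalizer (Q : Set G) := pow_mem hg _
        have hgsC : g ^ (n / s ^ k) ∈ Subgroup.centralizer (Q : Set G) :=
          hEvenB G r s hrp hs hrs hrodd Q _ hgsN ⟨k, hgsord⟩ hQcard
        have hgsC' : g ^ (n / s ^ k) ∈ C' :=
          ⟨hgsC, Subgroup.pow_mem _ (Subgroup.mem_zpowers g) _⟩
        rw [← hgsord]
        exact Subgroup.orderOf_dvd_natCard C' hgsC'
      have hC'eq : C' = Subgroup.zpowers g :=
        Subgroup.eq_of_le_of_card_ge inf_le_right (by
          rw [Nat.card_zpowers]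
          exact Nat.le_of_dvd Nat.card_pos hdvd)
      have hgC' : g ∈ C' := by
        rw [hC'eq]
        exact Subgroup.mem_zpowers g
      exact hgC'.1
  obtain ⟨P, N, hN, hNP⟩ := hcompl
  have hmul := hNP.card_mul_card
  rcases hN.eq_bot_or_eq_top with h | h
  · have hPtop : (P : Subgroup G) = ⊤ := by
      rw [h, Subgroup.card_bot, one_mul] at hmul
      exact Subgroup.eq_top_of_card_eq _ hmul
    have hGp : IsPGroup r G := by
      intro x
      obtain ⟨k, hk⟩ := P.isPGroup' ⟨x, by rw [hPtop]; trivial⟩
      exact ⟨k, congrArg Subtype.val hk⟩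
    have hcen : Nontrivial (Subgroup.center G) := hGp.center_nontrivial
    have hcentop : Subgroup.center G = ⊤ := by
      rcases (inferInstance : (Subgroup.center G).Normal).eq_bot_or_eq_top with h' | h'
      · exfalso
        obtain ⟨a, b, hab⟩ := hcen
        apply hab
        have ha : (a : G) ∈ (⊥ : Subgroup G) := h' ▸ a.2
        have hb : (b : G) ∈ (⊥ : Subgroup G) := h' ▸ b.2
        rw [Subgroup.mem_bot] at ha hb
        exact Subtype.ext (ha.trans hb.symm)
      · exact h'
    apply hnab
    refine ⟨⟨fun a b => ?_⟩⟩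
    have ha : a ∈ Subgroup.center G := by
      rw [hcentop]
      trivial
    exact ((Subgroup.mem_center_iff.mp ha) b).symm
  · rw [h, Subgroup.card_top] at hmul
    have hP1 : Nat.card ↥(P : Subgroup G) = 1 := by
      have hpos : 0 < Nat.card G := Nat.card_pos
      have h2 : Nat.card G * Nat.card ↥(P : Subgroup G) = Nat.card G * 1 := by rw [hmul, mul_one]
      exact Nat.eq_of_mul_eq_mul_left hpos h2
    have h3 : r ∣ Nat.card ↥(P : Subgroup G) := P.dvd_card_of_dvd_card hrdvd
    rw [hP1] at h3
    exact hrp.one_lt.ne' (Nat.dvd_one.mp h3)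

end Cfsg.Agent.Lib.Helper51.NCHASINV
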