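import Mathlib
import Cfsg.Agent.Lib.Helper89.NCStmt
import Cfsg.Agent.Lib.Helper51.NCBase
import Cfsg.Agent.S3224
import Cfsg.Agent.S3917

/-!
# S3921 piece SYL: some involution centralizer is a Sylow 2-subgroup, dihedral of order `≥ 8`,
quasidihedral or of order 4
-/

set_option autoImplicit false

namespace Cfsg.Agent.Lib.Helper51.NCSYL

open Cfsg.Agent.Lib.Helper89.NCStmt Cfsg.Agent.Lib.Helper51.NCBase

universe u

theorem main : Cfsg.Agent.Lib.Helper89.NCStmt.Syl.{u} := by
  intro G _ _ hNC hInv2 hCIT hex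
  obtain ⟨u, hu⟩ := hex
  classical
  have : Fact (Nat.Prime 2) := ⟨Nat.prime_two⟩
  have hzu : IsPGroup 2 (Subgroup.zpowers u) := by
    apply IsPGroup.of_card (n := 1)
    rw [Nat.card_zpowers, hu, pow_one]
  obtain ⟨P, hP⟩ := hzu.exists_le_sylow
  have huP : u ∈ (P : Subgroup G) := hP (Subgroup.mem_zpowers u)
  have hu1 : u ≠ 1 := by
    rintro rfl
    simp at hu
  have hPnt : Nontrivial ↥(P : Subgroup G) :=
    ⟨⟨⟨u, huP⟩, 1, fun h => hu1 (congrArg Subtype.val h)⟩⟩
  have hcen : Nontrivial (Subgroup.center ↥(P : Subgroup G)) := P.isPGroup'.center_nontrivial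
  have hcenp : IsPGroup 2 (Subgroup.center ↥(P : Subgroup G)) :=
    P.isPGroup'.to_subgroup _
  have h2dvd : 2 ∣ Nat.card (Subgroup.center ↥(P : Subgroup G)) := by
    rcases hcenp.card_eq_or_dvd with h | h
    · exfalso
      have := Finite.one_lt_card (α := Subgroup.center ↥(P : Subgroup G))
      omega
    · exact h
  obtain ⟨z, hz⟩ := exists_prime_orderOf_dvd_card' 2 h2dvd
  set t : G := ((z : ↥(P : Subgroup G)) : G) with ht
  have htord : orderOf t = 2 := by
    rw [ht, Subgroup.orderOf_coe, Subgroup.orderOf_coe, hz]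
  have htP : t ∈ (P : Subgroup G) := (z : ↥(P : Subgroup G)).2
  have hPle : (P : Subgroup G) ≤ Subgroup.centralizer ({t} : Set G) := by
    intro g hg
    rw [Subgroup.mem_centralizer_singleton_iff]
    have h1 := (Subgroup.mem_center_iff.mp z.2) ⟨g, hg⟩
    exact congrArg Subtype.val h1
  have hCt : Subgroup.centralizer ({t} : Set G) = (P : Subgroup G) :=
    P.is_maximal' (hCIT t htord) hPle
  obtain ⟨y, hyord, hyt, hycomm⟩ := hInv2 t htord
  have hyP : y ∈ (P : Subgroup G) := by
    rw [← hCt, Subgroup.mem_centralizer_singleton_iff]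
    exact hycomm
  -- the four-group
  set V : Subgroup G := Subgroup.closure {t, y} with hV
  have htV : t ∈ V := Subgroup.subset_closure (by simp)
  have hyV : y ∈ V := Subgroup.subset_closure (by simp)
  have hVP : V ≤ (P : Subgroup G) := by
    rw [hV, Subgroup.closure_le]
    intro g hg
    rcases hg with rfl | rfl
    · exact htP
    · exact hyP
  have hVnc : ¬ IsCyclic ↥V := by
    intro hc
    have h1 : orderOf (⟨t, htV⟩ : V) = 2 := by rw [Subgroup.orderOf_mk, htord]
    have h2 : orderOf (⟨y, hyV⟩ : V) = 2 := by rw [Subgroup.orderOf_mk, hyord]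
    have h3 := inv_unique_of_cyclic h1 h2
    exact hyt (congrArg Subtype.val h3).symm
  have hcommgen : ∀ a ∈ ({t, y} : Set G), ∀ b ∈ ({t, y} : Set G), a * b = b * a := by
    intro a ha b hb
    rcases ha with rfl | rfl <;> rcases hb with rfl | rfl
    · rfl
    · exact hycomm.symm
    · exact hycomm
    · rfl
  -- the centralizer of `t` and `y`
  have hD : Subgroup.centralizer ({t} : Set G) ⊓ Subgroup.centralizer ({y} : Set G) = V := by
    apply le_antisymm
    · intro g hg
      apply hNC V hVnc
      rw [Subgroup.mem_centralizer_iff]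
      have h1 : V ≤ Subgroup.centralizer ({g} : Set G) := by
        rw [hV, Subgroup.closure_le]
        intro a ha
        rcases ha with rfl | rfl
        · exact Subgroup.mem_centralizer_singleton_iff.mpr
            (Subgroup.mem_centralizer_singleton_iff.mp hg.1).symm
        · exact Subgroup.mem_centralizer_singleton_iff.mpr
            (Subgroup.mem_centralizer_singleton_iff.mp hg.2).symm
      intro a ha
      exact Subgroup.mem_centralizer_singleton_iff.mp (h1 ha)
    · rw [hV, Subgroup.closure_le]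
      intro a ha
      rcases ha with rfl | rfl
      · exact ⟨Subgroup.mem_centralizer_singleton_iff.mpr rfl,
          Subgroup.mem_centralizer_singleton_iff.mpr hycomm.symm⟩
      · exact ⟨Subgroup.mem_centralizer_singleton_iff.mpr hycomm,
          Subgroup.mem_centralizer_singleton_iff.mpr rfl⟩
  -- `V` has order 4
  have hVcard : Nat.card ↥V = 4 := by
    have hmc : IsMulCommutative ↥V := Subgroup.isMulCommutative_closure hcommgen
    let _ : CommGroup ↥V :=
      { (inferInstance : Group ↥V) with mul_comm := hmc.is_comm.comm }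
    have hncV : NC ↥V := nc_subgroup hNC V
    rcases Cfsg.Agent.S3917.result (G := ↥V) hncV with h | ⟨p, hp, hcard, -⟩
    · exact absurd h hVnc
    · have hVp : IsPGroup 2 ↥V := P.isPGroup'.to_le hVP
      obtain ⟨k, hk⟩ := IsPGroup.iff_card.mp hVp
      have h1 : p ∣ 2 ^ k := by
        rw [← hk, hcard]
        exact dvd_pow_self p (by norm_num)
      have h2 : p = 2 := (Nat.prime_dvd_prime_iff_eq hp Nat.prime_two).mp (hp.dvd_of_dvd_pow h1)
      rw [hcard, h2]
      norm_num
  -- apply S3224
  have hxord : orderOf (⟨y, hyP⟩ : ↥(P : Subgroup G)) = 2 := by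
    rw [Subgroup.orderOf_mk, hyord]
  have hmap : (Subgroup.centralizer ({(⟨y, hyP⟩ : ↥(P : Subgroup G))} : Set ↥(P : Subgroup G))).map
      (P : Subgroup G).subtype = V := by
    ext g
    constructor
    · rintro ⟨q, hq, rfl⟩
      have hq' : q ∈ Subgroup.centralizer
          ({(⟨y, hyP⟩ : ↥(P : Subgroup G))} : Set ↥(P : Subgroup G)) := hq
      rw [← hD]
      refine ⟨?_, ?_⟩
      · show (q : G) ∈ Subgroup.centralizer ({t} : Set G)
        rw [hCt]
        exact q.2
      · show (q : G) ∈ Subgroup.centralizer ({y} : Set G)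
        rw [Subgroup.mem_centralizer_singleton_iff]
        have h1 := Subgroup.mem_centralizer_singleton_iff.mp hq'
        exact congrArg Subtype.val h1
    · intro hg
      have hg' := hg
      rw [← hD] at hg'
      refine ⟨⟨g, hVP hg⟩, ?_, rfl⟩
      rw [SetLike.mem_coe, Subgroup.mem_centralizer_singleton_iff]
      exact Subtype.ext (Subgroup.mem_centralizer_singleton_iff.mp hg'.2)
  have hC4 : Nat.card ↥(Subgroup.centralizer
      ({(⟨y, hyP⟩ : ↥(P : Subgroup G))} : Set ↥(P : Subgroup G))) = 4 := by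
    rw [← Subgroup.card_map_of_injective (P : Subgroup G).subtype_injective, hmap, hVcard]
  have h4le : 4 ≤ Nat.card ↥(P : Subgroup G) := by
    rw [← hVcard]
    exact Subgroup.card_le_of_le hVP
  refine ⟨t, P, htord, hCt.symm, ?_⟩
  rcases Cfsg.Agent.S3224.result P.isPGroup' ⟨y, hyP⟩ hxord hC4 with ⟨n, ⟨e⟩⟩ | h | h
  · by_cases hn : 4 ≤ n
    · exact Or.inl ⟨n, hn, ⟨e⟩⟩
    · have hcard : Nat.card ↥(P : Subgroup G) = 2 * n := by
        rw [Nat.card_congr e.toEquiv, DihedralGroup.nat_card]
      obtain ⟨k, hk⟩ := IsPGroup.iff_card.mp P.isPGroup'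
      have hn3 : n ≠ 3 := by
        rintro rfl
        have h1 : 3 ∣ 2 ^ k := by
          rw [← hk, hcard]
          norm_num
        have h2 := Nat.prime_three.dvd_of_dvd_pow h1
        norm_num at h2
      right
      right
      rw [hcard] at h4le ⊢
      omega
  · exact Or.inr (Or.inl h)
  · exact Or.inr (Or.inr h)

end Cfsg.Agent.Lib.Helper51.NCSYL
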