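import Mathlib
import Cfsg.Agent.Lib.Helper46.PUStmt

/-!
# S2263 piece AR2D: two orbits, the remaining types (arithmetic).
-/

set_option autoImplicit false

namespace Cfsg.Agent.Lib.Helper51.PUAR2D

open Cfsg.Agent.Lib.Helper46.PUStmt

theorem add_two_le_two_pow (n : ℕ) (hn : 2 ≤ n) : n + 2 ≤ 2 ^ n := by
  induction n, hn using Nat.le_induction with
  | base => norm_num
  | succ n hn ih =>
    rw [pow_succ]
    omega

theorem pow_clog_le (p f M : ℕ) (hp : p.Prime) (hf : 1 ≤ f) (hM : 1 ≤ M) :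
    p ^ Nat.clog p M ≤ (p ^ f) ^ (M - 1) := by
  have h1 : M ≤ p ^ (M - 1) := by
    have h2 : M - 1 < 2 ^ (M - 1) := Nat.lt_two_pow_self
    have h3 : 2 ^ (M - 1) ≤ p ^ (M - 1) := Nat.pow_le_pow_left hp.two_le _
    omega
  have h4 : Nat.clog p M ≤ M - 1 := Nat.clog_le_of_le_pow h1
  have h5 : p ≤ p ^ f := Nat.le_self_pow (by omega) p
  exact (Nat.pow_le_pow_right hp.pos h4).trans (Nat.pow_le_pow_left h5 _)

theorem pow_clog_le' (p f M : ℕ) (hp : p.Prime) (hf : 1 ≤ f) (hM : 4 ≤ M) :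
    p ^ Nat.clog p M ≤ (p ^ f) ^ (M - 2) := by
  have h1 : M ≤ p ^ (M - 2) := by
    have h2 : (M - 2) + 2 ≤ 2 ^ (M - 2) := add_two_le_two_pow (M - 2) (by omega)
    have h3 : 2 ^ (M - 2) ≤ p ^ (M - 2) := Nat.pow_le_pow_left hp.two_le _
    omega
  have h4 : Nat.clog p M ≤ M - 2 := Nat.clog_le_of_le_pow h1
  have h5 : p ≤ p ^ f := Nat.le_self_pow (by omega) p
  exact (Nat.pow_le_pow_right hp.pos h4).trans (Nat.pow_le_pow_left h5 _)

theorem lcm_le (h : NNFacts) (q a b : ℕ) (hq : 2 ≤ q) (ha : 1 ≤ a) (hb : 1 ≤ b) :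
    Nat.lcm (nn q a) (nn q b) ≤ q ^ (a - 1) * (q ^ b + 1) := by
  obtain ⟨hda, hpa, -, hqa, -⟩ := h q a hq ha
  obtain ⟨hdb, hpb, hlb, -, -⟩ := h q b hq hb
  obtain ⟨x', hx'⟩ := hda
  have hx'' : nn q a / (q + 1) = x' := by
    rw [hx']; exact Nat.mul_div_cancel_left x' (by omega)
  rw [hx''] at hqa
  have hx'pos : 0 < x' := by
    rcases Nat.eq_zero_or_pos x' with h0 | h0
    · rw [h0, mul_zero] at hx'; omega
    · exact h0
  have hdvd : Nat.lcm (nn q a) (nn q b) ∣ x' * nn q b := by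
    apply Nat.lcm_dvd
    · rw [hx']
      obtain ⟨y', hy'⟩ := hdb
      rw [hy']
      exact ⟨y', by ring⟩
    · exact Dvd.intro_left x' rfl
  have hle : Nat.lcm (nn q a) (nn q b) ≤ x' * nn q b :=
    Nat.le_of_dvd (Nat.mul_pos hx'pos hpb) hdvd
  exact hle.trans (Nat.mul_le_mul hqa hlb)

theorem key_ineq (q u b : ℕ) (hq : 2 ≤ q) (hb : 1 ≤ b) :
    q ^ u * (q ^ b + 1) + 1 ≤ q ^ (u + b + 1) := by
  have ht : 1 ≤ q ^ u := Nat.one_le_pow _ _ (by omega)
  have hs : 2 ≤ q ^ b := le_trans hq (Nat.le_self_pow (by omega) q)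
  have h1 : q ^ u * 2 ≤ q ^ u * q ^ b := Nat.mul_le_mul_left _ hs
  have h2 : q ^ u * q ^ b * 2 ≤ q ^ u * q ^ b * q := Nat.mul_le_mul_left _ hq
  have h3 : q ^ (u + b + 1) = q ^ u * q ^ b * q := by ring
  rw [h3]
  have h4 : q ^ u * (q ^ b + 1) + 1 = q ^ u * q ^ b + q ^ u + 1 := by ring
  rw [h4]
  linarith

theorem main (h : NNFacts) : Ar2D := by
  intro p f a m b k hp hf ha hm hb hk h11 h21 h12 h31 h13
  have hq2 : 2 ≤ p ^ f := le_trans hp.two_le (Nat.le_self_pow (by omega) p)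
  have hqpos : 0 < p ^ f := by omega
  have hL1 := lcm_le h (p ^ f) a b hq2 ha hb
  have hL2 : Nat.lcm (nn (p ^ f) a) (nn (p ^ f) b) ≤ (p ^ f) ^ (b - 1) * ((p ^ f) ^ a + 1) := by
    rw [Nat.lcm_comm]; exact lcm_le h (p ^ f) b a hq2 hb ha
  by_cases hA : max m k + a + b ≤ a * m + b * k
  · have hc := pow_clog_le p f (max m k) hp hf (le_trans hm (le_max_left m k))
    have h1 : p ^ Nat.clog p (max m k) * Nat.lcm (nn (p ^ f) a) (nn (p ^ f) b) + 1 ≤
        (p ^ f) ^ (max m k - 1) * ((p ^ f) ^ (a - 1) * ((p ^ f) ^ b + 1)) + 1 :=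
      Nat.add_le_add_right (Nat.mul_le_mul hc hL1) 1
    have h2 : (p ^ f) ^ (max m k - 1) * ((p ^ f) ^ (a - 1) * ((p ^ f) ^ b + 1)) + 1 =
        (p ^ f) ^ ((max m k - 1) + (a - 1)) * ((p ^ f) ^ b + 1) + 1 := by
      rw [pow_add]; ring
    have h3 := key_ineq (p ^ f) ((max m k - 1) + (a - 1)) b hq2 hb
    have hM1 : 1 ≤ max m k := le_trans hm (le_max_left m k)
    have h4 : (p ^ f) ^ ((max m k - 1) + (a - 1) + b + 1) ≤ (p ^ f) ^ (a * m + b * k - 1) :=
      Nat.pow_le_pow_right hqpos (by omega)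
    rw [h2] at h1
    exact h1.trans (h3.trans h4)
  · have hB : (a = 1 ∧ k = 1 ∧ 4 ≤ m) ∨ (b = 1 ∧ m = 1 ∧ 4 ≤ k) := by
      obtain ⟨a', rfl⟩ : ∃ a', a = a' + 1 := ⟨a - 1, by omega⟩
      obtain ⟨m', rfl⟩ : ∃ m', m = m' + 1 := ⟨m - 1, by omega⟩
      obtain ⟨b', rfl⟩ : ∃ b', b = b' + 1 := ⟨b - 1, by omega⟩
      obtain ⟨k', rfl⟩ : ∃ k', k = k' + 1 := ⟨k - 1, by omega⟩
      have e1 : (a' + 1) * (m' + 1) = a' * m' + a' + m' + 1 := by ring
      have e2 : (b' + 1) * (k' + 1) = b' * k' + b' + k' + 1 := by ring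
      rw [e1, e2] at hA
      have hA' := not_le.mp hA
      rcases le_total m' k' with hmk | hmk
      · rw [max_eq_right (by omega : m' + 1 ≤ k' + 1)] at hA'
        have z1 : a' * m' = 0 := by omega
        have z2 : b' * k' = 0 := by omega
        have z3 : m' = 0 := by omega
        right
        rcases Nat.mul_eq_zero.mp z2 with hb0 | hk0
        · refine ⟨by omega, by omega, ?_⟩
          by_contra hk4
          have : k' = 0 ∨ k' = 1 ∨ k' = 2 := by omega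
          rcases this with r | r | r
          · exact h11 ⟨by omega, by omega⟩
          · exact h12 ⟨by omega, by omega, by omega⟩
          · exact h13 ⟨by omega, by omega, by omega⟩
        · exact absurd ⟨by omega, by omega⟩ h11
      · rw [max_eq_left (by omega : k' + 1 ≤ m' + 1)] at hA'
        have z1 : a' * m' = 0 := by omega
        have z2 : b' * k' = 0 := by omega
        have z3 : k' = 0 := by omega
        left
        rcases Nat.mul_eq_zero.mp z1 with ha0 | hm0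
        · refine ⟨by omega, by omega, ?_⟩
          by_contra hm4
          have : m' = 0 ∨ m' = 1 ∨ m' = 2 := by omega
          rcases this with r | r | r
          · exact h11 ⟨by omega, by omega⟩
          · exact h21 ⟨by omega, by omega, by omega⟩
          · exact h31 ⟨by omega, by omega, by omega⟩
        · exact absurd ⟨by omega, by omega⟩ h11
    rcases hB with ⟨rfl, rfl, hm4⟩ | ⟨rfl, rfl, hk4⟩
    · have hc := pow_clog_le' p f m hp hf hm4
      rw [max_eq_left (by omega : 1 ≤ m)]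
      have hL1' : Nat.lcm (nn (p ^ f) 1) (nn (p ^ f) b) ≤ (p ^ f) ^ b + 1 := by
        simpa using hL1
      have h1 : p ^ Nat.clog p m * Nat.lcm (nn (p ^ f) 1) (nn (p ^ f) b) + 1 ≤
          (p ^ f) ^ (m - 2) * ((p ^ f) ^ b + 1) + 1 :=
        Nat.add_le_add_right (Nat.mul_le_mul hc hL1') 1
      have h3 := key_ineq (p ^ f) (m - 2) b hq2 hb
      have h4 : (p ^ f) ^ (m - 2 + b + 1) ≤ (p ^ f) ^ (1 * m + b * 1 - 1) :=
        Nat.pow_le_pow_right hqpos (by omega)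
      exact h1.trans (h3.trans h4)
    · have hc := pow_clog_le' p f k hp hf hk4
      rw [max_eq_right (by omega : 1 ≤ k)]
      have hL2' : Nat.lcm (nn (p ^ f) a) (nn (p ^ f) 1) ≤ (p ^ f) ^ a + 1 := by
        simpa using hL2
      have h1 : p ^ Nat.clog p k * Nat.lcm (nn (p ^ f) a) (nn (p ^ f) 1) + 1 ≤
          (p ^ f) ^ (k - 2) * ((p ^ f) ^ a + 1) + 1 :=
        Nat.add_le_add_right (Nat.mul_le_mul hc hL2') 1
      have h3 := key_ineq (p ^ f) (k - 2) a hq2 ha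
      have h4 : (p ^ f) ^ (k - 2 + a + 1) ≤ (p ^ f) ^ (a * 1 + 1 * k - 1) :=
        Nat.pow_le_pow_right hqpos (by omega)
      exact h1.trans (h3.trans h4)

end Cfsg.Agent.Lib.Helper51.PUAR2D
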