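import Cfsg.Agent.Lib.Helper11.ZJFam
import Cfsg.Agent.Lib.Helper11.ZJ2
import Cfsg.Agent.Lib.Helper11.QuadStable
import Cfsg.Agent.Lib.Helper22.SubnFit
import Cfsg.Agent.Lib.Helper51.TWb
import Cfsg.Agent.S0064
import Cfsg.Agent.S0650
import Mathlib

/-! Group-level lemmas for primitive pairs of characteristic `p` with `p`-stable members:
subnormal `p`-subgroups below a `p`-quotient, minimal normal subgroups carry no quadratic action,
and the three consequences of `p`-stability used later, in ambient form. -/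

set_option autoImplicit false
set_option linter.unusedSectionVars false
set_option linter.unusedVariables false

namespace Cfsg.Agent.Lib.Helper51.PrimPairA

open Subgroup
open Cfsg.Agent.Lib.Helper11.ZJ Cfsg.Agent.Lib.Helper76.PSolv Cfsg.Agent.Lib.Helper51.TWb

section abstract

variable {X : Type*} [Group X] [Finite X] {p : ℕ} [Fact p.Prime]

/-- A `p`-subgroup `Y`, normal in `H`, where `C ≤ H ≤ L`, `L` normal and `L / C` a `p`-group,
lies in `O_p`. -/
theorem sub_le (C L H Y : Subgroup X) [C.Normal] [hLn : L.Normal] (hCL : C ≤ L)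
    (hpow : ∀ x ∈ L, ∃ k : ℕ, x ^ (p ^ k) ∈ C)
    (hCH : C ≤ H) (hHL : H ≤ L) (hYH : Y ≤ H) (hHY : H ≤ normalizer (Y : Set X))
    (hY : IsPGroup p Y) : Y ≤ Cfsg.pCore p X := by
  have hK : IsPGroup p (↥L ⧸ C.subgroupOf L) := by
    intro x
    induction x using QuotientGroup.induction_on with
    | H x =>
      obtain ⟨k, hk⟩ := hpow x x.2
      refine ⟨k, ?_⟩
      rw [← QuotientGroup.mk_pow, QuotientGroup.eq_one_iff, mem_subgroupOf]
      simpa using hk
  have hnil : Group.IsNilpotent (↥L ⧸ C.subgroupOf L) := hK.isNilpotent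
  have h1 : ((H.subgroupOf L).map (QuotientGroup.mk' (C.subgroupOf L))).IsSubnormal :=
    (Cfsg.Agent.S0064.result.mp hnil) _
  have h2 := h1.comap (QuotientGroup.mk' (C.subgroupOf L))
  have h3 : ((H.subgroupOf L).map (QuotientGroup.mk' (C.subgroupOf L))).comap
      (QuotientGroup.mk' (C.subgroupOf L)) = H.subgroupOf L := by
    rw [Subgroup.comap_map_eq, QuotientGroup.ker_mk']
    apply sup_eq_left.mpr
    intro x hx
    rw [mem_subgroupOf] at hx ⊢
    exact hCH hx
  rw [h3] at h2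
  have h4 : H.IsSubnormal := IsSubnormal.trans hHL h2 (Normal.isSubnormal hLn)
  have h5 : Y.IsSubnormal :=
    IsSubnormal.step Y H hYH h4 ((normal_subgroupOf_iff_le_normalizer hYH).mpr hHY)
  exact Cfsg.Agent.Lib.Helper22.SubnFit.subnormal_pGroup_le_pCore p h5 hY

/-- An element acting quadratically on `O_p` of a `p`-stable group of characteristic `p` lies in
`O_p`. -/
theorem quad_mem_pCore
    (hc : centralizer (Cfsg.pCore p X : Set X) ≤ Cfsg.pCore p X)
    (hst : ∀ a : X, ⁅⁅Cfsg.pCore p X, zpowers a⁆, zpowers a⁆ = ⊥ →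
      (QuotientGroup.mk a : X ⧸ centralizer (Cfsg.pCore p X : Set X)) ∈
        Cfsg.pCore p (X ⧸ centralizer (Cfsg.pCore p X : Set X)))
    (a : X) (hq : ⁅⁅Cfsg.pCore p X, zpowers a⁆, zpowers a⁆ = ⊥) : a ∈ Cfsg.pCore p X := by
  have h3 := hst a hq
  have hLn : ((Cfsg.pCore p (X ⧸ centralizer (Cfsg.pCore p X : Set X))).comap
      (QuotientGroup.mk' (centralizer (Cfsg.pCore p X : Set X)))).Normal :=
    (pCore_normal' p _).comap _
  have hLp : IsPGroup p ((Cfsg.pCore p (X ⧸ centralizer (Cfsg.pCore p X : Set X))).comap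
      (QuotientGroup.mk' (centralizer (Cfsg.pCore p X : Set X)))) := by
    apply IsPGroup.comap_of_ker_isPGroup (pCore_isPGroup p)
    rw [QuotientGroup.ker_mk']
    exact (pCore_isPGroup p).to_le hc
  exact le_pCore hLn hLp h3

/-- A nontrivial normal subgroup of a finite `p`-group meets the centre. -/
theorem normal_meets_center {P : Type*} [Group P] [Finite P] (hP : IsPGroup p P)
    (N : Subgroup P) [N.Normal] (hN : N ≠ ⊥) : ∃ z ∈ N, z ≠ 1 ∧ z ∈ center P := by
  have hNp : IsPGroup p N := hP.to_subgroup N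
  have hnt : Nontrivial ↥N := (Subgroup.nontrivial_iff_ne_bot N).mpr hN
  have dvd : p ∣ Nat.card ↥N := by
    obtain ⟨n, hn0, hn⟩ := hNp.nontrivial_iff_card.mp hnt
    exact hn.symm ▸ dvd_pow_self _ (ne_of_gt hn0)
  have h1 : (1 : ↥N) ∈ MulAction.fixedPoints (ConjAct P) ↥N := by
    intro g
    exact smul_one g
  obtain ⟨b, hb, hne⟩ :=
    (hP.of_equiv ConjAct.toConjAct).exists_fixed_point_of_prime_dvd_card_of_fixed_point
      (α := ↥N) dvd h1
  refine ⟨(b : P), b.2, ?_, ?_⟩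
  · intro h
    apply hne
    exact (Subtype.ext h).symm
  · rw [Subgroup.mem_center_iff]
    intro g
    have h2 := hb (ConjAct.toConjAct g)
    have h3 : ((ConjAct.toConjAct g • b : ↥N) : P) = g * (b : P) * g⁻¹ := by
      rw [ConjAct.Subgroup.val_conj_smul, ConjAct.toConjAct_smul]
    rw [h2] at h3
    calc g * (b : P) = (g * (b : P) * g⁻¹) * g := by group
      _ = (b : P) * g := by rw [← h3]

/-- For a minimal normal `p`-subgroup `E`, the group `O_p(X / C_X(E))` is trivial. -/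
theorem min_normal_central (E : Subgroup X) [hEn : E.Normal] (hEp : IsPGroup p E)
    (hmin : ∀ F : Subgroup X, F.Normal → F ≤ E → F ≠ ⊥ → F = E) (a : X)
    (ha : (QuotientGroup.mk a : X ⧸ centralizer (E : Set X)) ∈
      Cfsg.pCore p (X ⧸ centralizer (E : Set X))) : a ∈ centralizer (E : Set X) := by
  by_cases hE : E = ⊥
  · rw [hE, mem_centralizer_iff]
    intro h hh
    have h1 : h = 1 := hh
    rw [h1]
    simp
  obtain ⟨S⟩ := (inferInstance : Nonempty (Sylow p X))
  have hES : E ≤ S := hEp.le_sylow_of_normal S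
  have hN : E.subgroupOf (S : Subgroup X) ≠ ⊥ := by
    intro h
    apply hE
    rw [eq_bot_iff]
    intro x hx
    have h1 : (⟨x, hES hx⟩ : ↥(S : Subgroup X)) ∈ E.subgroupOf (S : Subgroup X) := by
      rw [mem_subgroupOf]; exact hx
    rw [h, mem_bot] at h1
    rw [mem_bot]
    exact congrArg Subtype.val h1
  obtain ⟨z, hzN, hz1, hzc⟩ := normal_meets_center (p := p) S.isPGroup'
    (E.subgroupOf (S : Subgroup X)) hN
  have hzE : (z : X) ∈ E := by rw [mem_subgroupOf] at hzN; exact hzN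
  have hzS : ∀ s ∈ (S : Subgroup X), s * (z : X) = (z : X) * s := by
    intro s hs
    have := (Subgroup.mem_center_iff.mp hzc) ⟨s, hs⟩
    exact congrArg Subtype.val this
  set C := centralizer (E : Set X) with hC
  set L := (Cfsg.pCore p (X ⧸ C)).comap (QuotientGroup.mk' C) with hL
  have hLn : L.Normal := (pCore_normal' p _).comap _
  have hzL : (z : X) ∈ centralizer (L : Set X) := by
    rw [mem_centralizer_iff]
    intro x hx
    have h1 : (QuotientGroup.mk' C x) ∈ Cfsg.pCore p (X ⧸ C) := hx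
    have h2 : Cfsg.pCore p (X ⧸ C) ≤
        ((S.mapSurjective (QuotientGroup.mk'_surjective C) : Sylow p (X ⧸ C)) : Subgroup (X ⧸ C)) :=
      pCore_le_sylow _
    have h3 := h2 h1
    rw [Sylow.coe_mapSurjective] at h3
    obtain ⟨s, hs, hsx⟩ := h3
    have h4 : s⁻¹ * x ∈ C := by
      have : (QuotientGroup.mk s : X ⧸ C) = QuotientGroup.mk x := hsx
      exact QuotientGroup.eq.mp this
    have h5 : (z : X) * (s⁻¹ * x) = (s⁻¹ * x) * (z : X) :=
      (mem_centralizer_iff.mp h4 (z : X) hzE)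
    have h6 := hzS s hs
    calc x * (z : X) = s * ((s⁻¹ * x) * (z : X)) := by group
      _ = s * ((z : X) * (s⁻¹ * x)) := by rw [h5]
      _ = (s * (z : X)) * (s⁻¹ * x) := by group
      _ = ((z : X) * s) * (s⁻¹ * x) := by rw [h6]
      _ = (z : X) * x := by group
  have hF : E ⊓ centralizer (L : Set X) = E := by
    apply hmin _ inferInstance inf_le_left
    intro h
    have h1 : (z : X) ∈ E ⊓ centralizer (L : Set X) := ⟨hzE, hzL⟩
    rw [h, mem_bot] at h1
    apply hz1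
    exact Subtype.ext h1
  have haL : a ∈ L := ha
  rw [mem_centralizer_iff]
  intro e he
  have h1 : e ∈ centralizer (L : Set X) := by
    have : e ∈ E ⊓ centralizer (L : Set X) := by rw [hF]; exact he
    exact this.2
  exact (mem_centralizer_iff.mp h1 a haL).symm

/-- A minimal normal subgroup inside the centre of a nontrivial `O_p`. -/
theorem exists_E (hQ : Cfsg.pCore p X ≠ ⊥) :
    ∃ E : Subgroup X, E.Normal ∧ E ≠ ⊥ ∧ E ≤ Cfsg.pCore p X ∧ ⁅E, E⁆ = ⊥ ∧
      ∀ F : Subgroup X, F.Normal → F ≤ E → F ≠ ⊥ → F = E := by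
  have hQn : (Cfsg.pCore p X).Normal := pCore_normal' p X
  have hQp : IsPGroup p (Cfsg.pCore p X) := pCore_isPGroup p
  set Z := Cfsg.pCore p X ⊓ centralizer (Cfsg.pCore p X : Set X) with hZ
  have hZn : Z.Normal := inferInstance
  have hZ0 : Z ≠ ⊥ := by
    have hnt : Nontrivial ↥(Cfsg.pCore p X) := (Subgroup.nontrivial_iff_ne_bot _).mpr hQ
    have hc := IsPGroup.center_nontrivial (G := ↥(Cfsg.pCore p X)) hQp
    obtain ⟨z, hz⟩ := exists_ne (1 : ↥(center ↥(Cfsg.pCore p X)))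
    intro h
    have h1 : ((z : ↥(Cfsg.pCore p X)) : X) ∈ Z := by
      refine Subgroup.mem_inf.mpr ⟨(z : ↥(Cfsg.pCore p X)).2, ?_⟩
      rw [mem_centralizer_iff]
      intro q hq
      have := (Subgroup.mem_center_iff.mp z.2) ⟨q, hq⟩
      exact congrArg Subtype.val this
    rw [h, mem_bot] at h1
    apply hz
    apply Subtype.ext
    apply Subtype.ext
    exact h1
  have hne : Nonempty {F : Subgroup X // F.Normal ∧ F ≠ ⊥ ∧ F ≤ Z} := ⟨⟨Z, hZn, hZ0, le_rfl⟩⟩
  obtain ⟨E, hE⟩ := Finite.exists_min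
    (fun F : {F : Subgroup X // F.Normal ∧ F ≠ ⊥ ∧ F ≤ Z} => Nat.card (F : Subgroup X))
  refine ⟨E.1, E.2.1, E.2.2.1, E.2.2.2.trans inf_le_left, ?_, ?_⟩
  · rw [commutator_eq_bot_iff_le_centralizer]
    refine (E.2.2.2.trans inf_le_right).trans ?_
    exact centralizer_le (fun x hx => (E.2.2.2.trans inf_le_left) hx)
  · intro F hFn hFE hF0
    have h1 := hE ⟨F, hFn, hF0, hFE.trans E.2.2.2⟩
    exact Subgroup.eq_of_le_of_card_ge hFE h1

/-- `p`-stability on a normal `p`-subgroup `B` forces elements of a `p`-subgroup `P`, normal in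
some `D ≥ C_X(B)`, that act quadratically on `B` into `O_p(X)`. -/
theorem stable_sub (B : Subgroup X) [B.Normal]
    (hst : ∀ a : X, ⁅⁅B, zpowers a⁆, zpowers a⁆ = ⊥ →
      (QuotientGroup.mk a : X ⧸ centralizer (B : Set X)) ∈
        Cfsg.pCore p (X ⧸ centralizer (B : Set X)))
    (D P : Subgroup X) (hCD : centralizer (B : Set X) ≤ D) (hPD : P ≤ D)
    (hDP : D ≤ normalizer (P : Set X)) (hP : IsPGroup p P)
    (a : X) (haP : a ∈ P) (hq : ⁅⁅B, zpowers a⁆, zpowers a⁆ = ⊥) : a ∈ Cfsg.pCore p X := by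
  have h3 := hst a hq
  set C := centralizer (B : Set X) with hC
  set L := (Cfsg.pCore p (X ⧸ C)).comap (QuotientGroup.mk' C) with hL
  have hLn : L.Normal := (pCore_normal' p _).comap _
  have hCL : C ≤ L := by
    intro c hc
    show (QuotientGroup.mk' C c) ∈ Cfsg.pCore p (X ⧸ C)
    have : (QuotientGroup.mk' C c) = 1 := (QuotientGroup.eq_one_iff c).mpr hc
    rw [this]; exact Subgroup.one_mem _
  have hpow : ∀ x ∈ L, ∃ k : ℕ, x ^ (p ^ k) ∈ C := fun x hx => mem_preimage_pow C x hx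
  have hY : P ⊓ L ≤ Cfsg.pCore p X := by
    refine sub_le C L (D ⊓ L) (P ⊓ L) hCL hpow (le_inf hCD hCL) inf_le_right
      (inf_le_inf_right L hPD) ?_ (hP.to_le inf_le_left)
    intro h hh
    have h1 := hDP hh.1
    rw [mem_normalizer_iff] at h1 ⊢
    intro y
    constructor
    · intro hy
      exact ⟨(h1 y).mp hy.1, hLn.conj_mem y hy.2 h⟩
    · intro hy
      refine ⟨(h1 y).mpr hy.1, ?_⟩
      have := hLn.conj_mem _ hy.2 h⁻¹
      have e : h⁻¹ * (h * y * h⁻¹) * h⁻¹⁻¹ = y := by group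
      rw [e] at this
      exact this
  exact hY ⟨haP, h3⟩

end abstract

section ambient

variable {G : Type*} [Group G] [Finite G] {p : ℕ} [Fact p.Prime]

/-- Transport of a quadratic-action condition to the subgroup type. -/
theorem quad_sub (M : Subgroup G) (V : Subgroup ↥M) (a : G) (ha : a ∈ M)
    (hq : ⁅⁅V.map M.subtype, zpowers a⁆, zpowers a⁆ = ⊥) :
    ⁅⁅V, zpowers (⟨a, ha⟩ : ↥M)⁆, zpowers (⟨a, ha⟩ : ↥M)⁆ = ⊥ := by
  apply Subgroup.map_injective M.subtype_injective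
  rw [Subgroup.map_commutator, Subgroup.map_commutator, Subgroup.map_bot, MonoidHom.map_zpowers]
  exact hq

/-- (a) Quadratic action on `O_p(M)` forces membership in `O_p(M)`. -/
theorem amb_a (hp : p ≠ 2) (M : Subgroup G)
    (hfree : ¬ Cfsg.Involves (Matrix.SpecialLinearGroup (Fin 2) (ZMod p)) ↥M)
    (hc : centralizer (Cfsg.pCore p ↥M : Set ↥M) ≤ Cfsg.pCore p ↥M) :
    ∀ a ∈ M, ⁅⁅OG p M, zpowers a⁆, zpowers a⁆ = ⊥ → a ∈ OG p M := by
  intro a ha hq
  have : (Cfsg.pCore p ↥M).Normal := pCore_normal' p _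
  have hst : Cfsg.IsPStableOn p (Cfsg.pCore p ↥M) :=
    Cfsg.Agent.Lib.Helper11.QuadStable.isPStableOn_of_not_involves hp _ (pCore_isPGroup p) hfree
  have hq' := quad_sub M (Cfsg.pCore p ↥M) a ha hq
  have := quad_mem_pCore hc hst ⟨a, ha⟩ hq'
  exact ⟨⟨a, ha⟩, this, rfl⟩

/-- (b) A nontrivial abelian normal subgroup of `M` inside `O_p(M)` without quadratic action. -/
theorem amb_b (hp : p ≠ 2) (M : Subgroup G)
    (hfree : ¬ Cfsg.Involves (Matrix.SpecialLinearGroup (Fin 2) (ZMod p)) ↥M)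
    (hQ : OG p M ≠ ⊥) :
    ∃ E : Subgroup G, E ≠ ⊥ ∧ E ≤ OG p M ∧ ⁅E, E⁆ = ⊥ ∧ M ≤ normalizer (E : Set G) ∧
      ∀ a ∈ M, ⁅⁅E, zpowers a⁆, zpowers a⁆ = ⊥ → a ∈ centralizer (E : Set G) := by
  have hQ' : Cfsg.pCore p ↥M ≠ ⊥ := by
    intro h
    apply hQ
    unfold OG
    rw [h, Subgroup.map_bot]
  obtain ⟨E', hEn, hE0, hEQ, hEc, hmin⟩ := exists_E (p := p) hQ'
  have hEp : IsPGroup p E' := (pCore_isPGroup p).to_le hEQ
  refine ⟨E'.map M.subtype, ?_, Subgroup.map_mono hEQ, ?_, ?_, ?_⟩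
  · intro h
    exact hE0 ((Subgroup.map_eq_bot_iff_of_injective _ M.subtype_injective).mp h)
  · rw [← Subgroup.map_commutator, hEc, Subgroup.map_bot]
  · intro m hm
    apply Cfsg.Agent.S0650.mem_normalizer_of_conj_mem
    rintro _ ⟨e, he, rfl⟩
    exact ⟨⟨m, hm⟩ * e * ⟨m, hm⟩⁻¹, hEn.conj_mem e he ⟨m, hm⟩, rfl⟩
  · intro a ha hq
    have hq' := quad_sub M E' a ha hq
    have hst : Cfsg.IsPStableOn p E' :=
      Cfsg.Agent.Lib.Helper11.QuadStable.isPStableOn_of_not_involves hp _ hEp hfree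
    have h1 := min_normal_central E' hEp hmin ⟨a, ha⟩ (hst _ hq')
    rw [mem_centralizer_iff]
    rintro _ ⟨e, he, rfl⟩
    have := mem_centralizer_iff.mp h1 e he
    exact congrArg Subtype.val this

/-- (c) Elements of a `p`-subgroup `P`, normal in some `D ≥ C_M(B)`, acting quadratically on the
normal `p`-subgroup `B` of `M`, lie in `O_p(M)`. -/
theorem amb_c (hp : p ≠ 2) (M : Subgroup G)
    (hfree : ¬ Cfsg.Involves (Matrix.SpecialLinearGroup (Fin 2) (ZMod p)) ↥M) :
    ∀ B D P : Subgroup G, B ≤ M → M ≤ normalizer (B : Set G) → IsPGroup p B →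
      M ⊓ centralizer (B : Set G) ≤ D → D ≤ M → P ≤ D → D ≤ normalizer (P : Set G) →
      IsPGroup p P → ∀ a ∈ P, ⁅⁅B, zpowers a⁆, zpowers a⁆ = ⊥ → a ∈ OG p M := by
  intro B D P hBM hMB hBp hCD hDM hPD hDP hPp a haP hq
  have haM : a ∈ M := hDM (hPD haP)
  have hBn : (B.subgroupOf M).Normal := (normal_subgroupOf_iff_le_normalizer hBM).mpr hMB
  have hst : Cfsg.IsPStableOn p (B.subgroupOf M) :=
    Cfsg.Agent.Lib.Helper11.QuadStable.isPStableOn_of_not_involves hp _ hBp.comap_subtype hfree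
  have hq' : ⁅⁅B.subgroupOf M, zpowers (⟨a, haM⟩ : ↥M)⁆, zpowers (⟨a, haM⟩ : ↥M)⁆ = ⊥ := by
    apply quad_sub M (B.subgroupOf M) a haM
    rw [Subgroup.map_subgroupOf_eq_of_le hBM]
    exact hq
  have h1 : (⟨a, haM⟩ : ↥M) ∈ Cfsg.pCore p ↥M := by
    refine stable_sub (B.subgroupOf M) hst (D.subgroupOf M) (P.subgroupOf M) ?_ ?_ ?_
      hPp.comap_subtype ⟨a, haM⟩ ?_ hq'
    · intro x hx
      rw [mem_subgroupOf]
      apply hCD
      refine Subgroup.mem_inf.mpr ⟨x.2, ?_⟩
      rw [mem_centralizer_iff] at hx ⊢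
      intro b hb
      have := hx ⟨b, hBM hb⟩ (by rw [SetLike.mem_coe, mem_subgroupOf]; exact hb)
      exact congrArg Subtype.val this
    · intro x hx
      rw [mem_subgroupOf] at hx ⊢
      exact hPD hx
    · intro d hd
      rw [mem_subgroupOf] at hd
      have h2 := hDP hd
      rw [mem_normalizer_iff] at h2 ⊢
      intro y
      rw [mem_subgroupOf, mem_subgroupOf]
      exact h2 y
    · rw [mem_subgroupOf]
      exact haP
  exact ⟨⟨a, haM⟩, h1, rfl⟩

end ambient

end Cfsg.Agent.Lib.Helper51.PrimPairA
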