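import Cfsg.Agent.Lib.Helper51.PrimPairA
import Cfsg.Agent.Lib.Helper11.QuadSylow
import Mathlib

/-! Primitive pairs of characteristic `p` whose members are `p`-stable: the centre of the Thompson
subgroup of `O_p(M₁) O_p(M₂)` coincides with that of `O_p(M₁)` and of `O_p(M₂)`, which contradicts
primitivity. -/

set_option autoImplicit false
set_option linter.unusedSectionVars false
set_option linter.unusedVariables false

namespace Cfsg.Agent.Lib.Helper51.PrimPairB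

open Subgroup
open Cfsg.Agent.Lib.Helper11.ZJ Cfsg.Agent.Lib.Helper11.ZJFam Cfsg.Agent.Lib.Helper51.TWb
open Cfsg.Agent.Lib.Helper51.PrimPairA Cfsg.Agent.Lib.Helper76.PSolv

variable {G : Type*} [Group G] [Finite G] {p : ℕ} [Fact p.Prime]

/-- An abelian subgroup commuting with a member of the family lies in it. -/
theorem le_of_comm_max (P A E : Subgroup G) (hA : A ∈ famA P) (hEP : E ≤ P) (hEc : ⁅E, E⁆ = ⊥)
    (hAE : A ≤ centralizer (E : Set G)) : E ≤ A := by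
  obtain ⟨hAP, hAc, hmax⟩ := (mem_famA_iff P A).mp hA
  have hAA : A ≤ centralizer (A : Set G) := le_centralizer_iff_isMulCommutative.mpr hAc
  have hEE : E ≤ centralizer (E : Set G) := commutator_eq_bot_iff_le_centralizer.mp hEc
  have hEA : E ≤ centralizer (A : Set G) := le_centralizer_iff.mp hAE
  have h2 : A ⊔ E ≤ centralizer (A : Set G) := sup_le hAA hEA
  have h3 : A ⊔ E ≤ centralizer (E : Set G) := sup_le hAE hEE
  have h : A ⊔ E ≤ centralizer ((A ⊔ E : Subgroup G) : Set G) :=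
    sup_le (le_centralizer_iff.mp h2) (le_centralizer_iff.mp h3)
  have hcomm : IsMulCommutative ↥(A ⊔ E) := le_centralizer_iff_isMulCommutative.mp h
  have h4 := hmax (A ⊔ E) (sup_le hAP hEP) hcomm
  have h5 : A = A ⊔ E := Subgroup.eq_of_le_of_card_ge le_sup_left h4
  rw [h5]
  exact le_sup_right

theorem le_normalizer_sup (D A B : Subgroup G) (hA : D ≤ normalizer (A : Set G))
    (hB : D ≤ normalizer (B : Set G)) : D ≤ normalizer ((A ⊔ B : Subgroup G) : Set G) := by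
  intro d hd
  apply Cfsg.Agent.S0650.mem_normalizer_of_conj_mem
  intro x hx
  have h1 : (A ⊔ B).map (MulAut.conj d).toMonoidHom ≤ A ⊔ B := by
    rw [Subgroup.map_sup]
    apply sup_le_sup
    · rintro _ ⟨a, ha, rfl⟩
      exact ((mem_normalizer_iff.mp (hA hd)) a).mp ha
    · rintro _ ⟨b, hb, rfl⟩
      exact ((mem_normalizer_iff.mp (hB hd)) b).mp hb
  exact h1 ⟨x, hx, rfl⟩

/-- If `V` normalizes the abelian group `A`, every element of `A` acts quadratically on `V`. -/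
theorem quad_of_normalizes (V A : Subgroup G) (hVA : V ≤ normalizer (A : Set G))
    (hAc : ⁅A, A⁆ = ⊥) (a : G) (ha : a ∈ A) : ⁅⁅V, zpowers a⁆, zpowers a⁆ = ⊥ := by
  have hz : zpowers a ≤ A := zpowers_le.mpr ha
  have h1 : ⁅V, zpowers a⁆ ≤ A := by
    rw [Subgroup.commutator_le]
    intro v hv y hy
    have hyA : y ∈ A := hz hy
    have := (mem_normalizer_iff.mp (hVA hv) y).mp hyA
    exact A.mul_mem this (A.inv_mem hyA)
  rw [eq_bot_iff, ← hAc]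
  exact Subgroup.commutator_mono h1 hz

/-- The key step: `Z(J(O_p(M₁) O_p(M₂))) = Z(J(O_p(M₁)))`. -/
theorem key (hp : p ≠ 2) (M₁ M₂ : Subgroup G)
    (hO : OG p M₁ ⊔ OG p M₂ ≤ M₁ ⊓ M₂)
    (hP : ∀ A : Subgroup G, A ≠ ⊥ → A ≤ M₁ ⊓ M₂ → M₂ ≤ normalizer (A : Set G) →
      M₁ ⊓ normalizer (A : Set G) ≤ M₂)
    (ha : ∀ a ∈ M₁, ⁅⁅OG p M₁, zpowers a⁆, zpowers a⁆ = ⊥ → a ∈ OG p M₁)
    (hb : ∃ E : Subgroup G, E ≠ ⊥ ∧ E ≤ OG p M₂ ∧ ⁅E, E⁆ = ⊥ ∧ M₂ ≤ normalizer (E : Set G) ∧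
      ∀ a ∈ M₂, ⁅⁅E, zpowers a⁆, zpowers a⁆ = ⊥ → a ∈ centralizer (E : Set G))
    (hc : ∀ B D P : Subgroup G, B ≤ M₁ → M₁ ≤ normalizer (B : Set G) → IsPGroup p B →
      M₁ ⊓ centralizer (B : Set G) ≤ D → D ≤ M₁ → P ≤ D → D ≤ normalizer (P : Set G) →
      IsPGroup p P → ∀ a ∈ P, ⁅⁅B, zpowers a⁆, zpowers a⁆ = ⊥ → a ∈ OG p M₁) :
    sInf (famA (OG p M₁ ⊔ OG p M₂)) = sInf (famA (OG p M₁)) ∧
      sInf (famA (OG p M₁)) ≠ ⊥ := by
  have hF : IsFam p (famA (G := G)) := isFam_famA hp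
  obtain ⟨E, hE0, hEQ₂, hEc, hEn, hEβ⟩ := hb
  have hQ₁D : OG p M₁ ≤ M₁ ⊓ M₂ := le_sup_left.trans hO
  have hQ₂D : OG p M₂ ≤ M₁ ⊓ M₂ := le_sup_right.trans hO
  have hM₁Q₁ : M₁ ≤ normalizer (OG p M₁ : Set G) := le_normalizer.trans (OG_le_normalizer p M₁)
  have hM₂Q₂ : M₂ ≤ normalizer (OG p M₂ : Set G) := le_normalizer.trans (OG_le_normalizer p M₂)
  have hQ₁p : IsPGroup p (OG p M₁) := OG_isPGroup p M₁
  have hQ₂p : IsPGroup p (OG p M₂) := OG_isPGroup p M₂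
  have hQ₁E : OG p M₁ ≤ normalizer (E : Set G) := (hQ₁D.trans inf_le_right).trans hEn
  have hEQ₁ : E ≤ OG p M₁ := by
    intro a haE
    apply ha a ((hQ₂D (hEQ₂ haE)).1)
    exact quad_of_normalizes (OG p M₁) E hQ₁E hEc a haE
  have hEB : E ≤ sInf (famA (OG p M₁)) := by
    by_contra hcon
    have hU : ∃ U ∈ famA (OG p M₁), ⁅E, E⁆ ≤ U ∧ ¬ E ≤ U := by
      by_contra h
      push Not at h
      apply hcon
      apply le_sInf
      intro U hU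
      exact h U hU (by rw [hEc]; exact bot_le)
    obtain ⟨A, hA, -, hEA, hEN⟩ := hF.replace (OG p M₁) E hQ₁p hEQ₁ hQ₁E hU
    apply hEA
    apply le_of_comm_max (OG p M₁) A E hA hEQ₁ hEc
    intro a haA
    have hAc : ⁅A, A⁆ = ⊥ := Subgroup.commutator_self_eq_bot_iff.mpr (hF.comm _ _ hA)
    apply hEβ a ((hQ₁D (hF.le _ _ hA haA)).2)
    exact quad_of_normalizes E A hEN hAc a haA
  have hBQ₁ : sInf (famA (OG p M₁)) ≤ OG p M₁ := sInf_le_self hF _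
  have hBc : ⁅sInf (famA (OG p M₁)), sInf (famA (OG p M₁))⁆ = ⊥ := commutator_sInf hF _
  have hM₁B : M₁ ≤ normalizer ((sInf (famA (OG p M₁)) : Subgroup G) : Set G) :=
    hM₁Q₁.trans (normalizer_le hF _)
  have hBp : IsPGroup p (sInf (famA (OG p M₁)) : Subgroup G) := hQ₁p.to_le hBQ₁
  have hB0 : sInf (famA (OG p M₁)) ≠ ⊥ := by
    intro h
    apply hE0
    rw [eq_bot_iff, ← h]
    exact hEB
  refine ⟨?_, hB0⟩
  have hCD : M₁ ⊓ centralizer ((sInf (famA (OG p M₁)) : Subgroup G) : Set G) ≤ M₁ ⊓ M₂ := by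
    intro x hx
    refine Subgroup.mem_inf.mpr ⟨hx.1, ?_⟩
    apply hP E hE0 (hEQ₂.trans hQ₂D) hEn
    refine Subgroup.mem_inf.mpr ⟨hx.1, ?_⟩
    have h1 : x ∈ centralizer (E : Set G) := centralizer_le (fun e he => hEB he) hx.2
    exact centralizer_le_normalizer _ h1
  have hP₀p : IsPGroup p (OG p M₁ ⊔ OG p M₂ : Subgroup G) :=
    IsPGroup.to_sup_of_normal_left' hQ₁p hQ₂p ((hQ₂D.trans inf_le_left).trans hM₁Q₁)
  have hDP₀ : M₁ ⊓ M₂ ≤ normalizer ((OG p M₁ ⊔ OG p M₂ : Subgroup G) : Set G) :=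
    le_normalizer_sup _ _ _ (inf_le_left.trans hM₁Q₁) (inf_le_right.trans hM₂Q₂)
  have hBP₀ : sInf (famA (OG p M₁)) ≤ OG p M₁ ⊔ OG p M₂ := hBQ₁.trans le_sup_left
  have hP₀B : OG p M₁ ⊔ OG p M₂ ≤ normalizer ((sInf (famA (OG p M₁)) : Subgroup G) : Set G) :=
    (hO.trans inf_le_left).trans hM₁B
  have hcB := hc (sInf (famA (OG p M₁))) (M₁ ⊓ M₂) (OG p M₁ ⊔ OG p M₂)
    (hBQ₁.trans (hQ₁D.trans inf_le_left)) hM₁B hBp hCD inf_le_left hO hDP₀ hP₀p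
  by_cases hU : ∃ U ∈ famA (OG p M₁ ⊔ OG p M₂),
      ⁅sInf (famA (OG p M₁)), sInf (famA (OG p M₁))⁆ ≤ U ∧ ¬ sInf (famA (OG p M₁)) ≤ U
  · exfalso
    obtain ⟨A, hA, -, hBA, hBN⟩ := hF.replace (OG p M₁ ⊔ OG p M₂) _ hP₀p hBP₀ hP₀B hU
    have hAc : ⁅A, A⁆ = ⊥ := Subgroup.commutator_self_eq_bot_iff.mpr (hF.comm _ _ hA)
    have hAQ₁ : A ≤ OG p M₁ := by
      intro a haA
      exact hcB a (hF.le _ _ hA haA) (quad_of_normalizes _ A hBN hAc a haA)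
    have hA' : A ∈ famA (OG p M₁) := hF.restrict (OG p M₁) _ A le_sup_left hA hAQ₁
    exact hBA (sInf_le hA')
  · push Not at hU
    obtain ⟨A₀, hA₀⟩ := hF.nonempty (OG p M₁ ⊔ OG p M₂)
    have hBA₀ : sInf (famA (OG p M₁)) ≤ A₀ := hU A₀ hA₀ (by rw [hBc]; exact bot_le)
    have hAc : ⁅A₀, A₀⁆ = ⊥ := Subgroup.commutator_self_eq_bot_iff.mpr (hF.comm _ _ hA₀)
    have hA₀Q₁ : A₀ ≤ OG p M₁ := by
      intro a haA
      exact hcB a (hF.le _ _ hA₀ haA)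
        (quad_of_normalizes _ A₀ (hBA₀.trans le_normalizer) hAc a haA)
    have hsub : famA (OG p M₁) ⊆ famA (OG p M₁ ⊔ OG p M₂) :=
      hF.subset (OG p M₁) _ A₀ le_sup_left hA₀ hA₀Q₁
    apply le_antisymm
    · exact sInf_le_sInf hsub
    · apply le_sInf
      intro U hU'
      exact hU U hU' (by rw [hBc]; exact bot_le)

/-- If `O_p(M) = 1` and `C_M(O_p(M)) ≤ O_p(M)` then `M = 1`. -/
theorem eq_bot_of_OG (M : Subgroup G)
    (hc : centralizer (Cfsg.pCore p ↥M : Set ↥M) ≤ Cfsg.pCore p ↥M) (h : OG p M = ⊥) : M = ⊥ := by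
  have h1 : Cfsg.pCore p ↥M = ⊥ :=
    (Subgroup.map_eq_bot_iff_of_injective _ M.subtype_injective).mp h
  rw [eq_bot_iff]
  intro x hx
  have h2 : (⟨x, hx⟩ : ↥M) ∈ centralizer (Cfsg.pCore p ↥M : Set ↥M) := by
    rw [mem_centralizer_iff]
    intro q hq
    rw [h1] at hq
    have hq1 : q = 1 := hq
    rw [hq1]
    simp
  have h3 := hc h2
  rw [h1, mem_bot] at h3
  rw [mem_bot]
  exact congrArg Subtype.val h3

/-- With abelian Sylow `p`-subgroups and `C_M(O_p(M)) ≤ O_p(M)`, every `p`-subgroup of `M` lies in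
`O_p(M)`. -/
theorem le_OG_of_abelian_sylow (M : Subgroup G)
    (hc : centralizer (Cfsg.pCore p ↥M : Set ↥M) ≤ Cfsg.pCore p ↥M)
    (hab : ∀ S : Sylow p ↥M, IsMulCommutative (S : Subgroup ↥M)) (R : Subgroup G) (hRM : R ≤ M)
    (hR : IsPGroup p R) : R ≤ OG p M := by
  have hR' : IsPGroup p (R.subgroupOf M) := hR.comap_subtype
  obtain ⟨S, hS⟩ := hR'.exists_le_sylow
  have hS' : IsMulCommutative ↥(S : Subgroup ↥M) := hab S
  have hSQ : (S : Subgroup ↥M) ≤ Cfsg.pCore p ↥M := by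
    intro s hs
    apply hc
    rw [mem_centralizer_iff]
    intro q hq
    have hqS : q ∈ (S : Subgroup ↥M) := pCore_le_sylow S hq
    exact setLike_mul_comm hqS hs
  intro r hr
  have h1 : (⟨r, hRM hr⟩ : ↥M) ∈ R.subgroupOf M := by
    rw [mem_subgroupOf]
    exact hr
  exact ⟨⟨r, hRM hr⟩, hSQ (hS h1), rfl⟩

/-- A nontrivial subgroup of `M₁ ∩ M₂` normal in both members contradicts primitivity. -/
theorem eq_of_common_normal (M₁ M₂ : Subgroup G)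
    (hP : ∀ A : Subgroup G, A ≠ ⊥ → A ≤ M₁ ⊓ M₂ →
      (M₁ ≤ normalizer (A : Set G) → M₂ ⊓ normalizer (A : Set G) = M₁ ⊓ M₂) ∧
      (M₂ ≤ normalizer (A : Set G) → M₁ ⊓ normalizer (A : Set G) = M₁ ⊓ M₂))
    (Z : Subgroup G) (hZ0 : Z ≠ ⊥) (hZD : Z ≤ M₁ ⊓ M₂) (h1 : M₁ ≤ normalizer (Z : Set G))
    (h2 : M₂ ≤ normalizer (Z : Set G)) : M₁ = M₂ := by
  obtain ⟨hA, hB⟩ := hP Z hZ0 hZD
  have e1 := hA h1
  have e2 := hB h2
  apply le_antisymm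
  · have : M₁ ≤ M₁ ⊓ normalizer (Z : Set G) := le_inf le_rfl h1
    rw [e2] at this
    exact this.trans inf_le_right
  · have : M₂ ≤ M₂ ⊓ normalizer (Z : Set G) := le_inf le_rfl h2
    rw [e1] at this
    exact this.trans inf_le_left

/-- No primitive pair of characteristic `p` has both members with abelian Sylow `2`-subgroups. -/
theorem final (M₁ M₂ : Subgroup G) (hne : M₁ ≠ M₂)
    (hP : ∀ A : Subgroup G, A ≠ ⊥ → A ≤ M₁ ⊓ M₂ →
      (M₁ ≤ normalizer (A : Set G) → M₂ ⊓ normalizer (A : Set G) = M₁ ⊓ M₂) ∧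
      (M₂ ≤ normalizer (A : Set G) → M₁ ⊓ normalizer (A : Set G) = M₁ ⊓ M₂))
    (hc₁ : centralizer (Cfsg.pCore p ↥M₁ : Set ↥M₁) ≤ Cfsg.pCore p ↥M₁)
    (hc₂ : centralizer (Cfsg.pCore p ↥M₂ : Set ↥M₂) ≤ Cfsg.pCore p ↥M₂)
    (hO : OG p M₁ ⊔ OG p M₂ ≤ M₁ ⊓ M₂)
    (h₁ : ∀ S : Sylow 2 ↥M₁, IsMulCommutative (S : Subgroup ↥M₁))
    (h₂ : ∀ S : Sylow 2 ↥M₂, IsMulCommutative (S : Subgroup ↥M₂)) : False := by
  have hM₁Q₁ : M₁ ≤ normalizer (OG p M₁ : Set G) := le_normalizer.trans (OG_le_normalizer p M₁)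
  have hM₂Q₂ : M₂ ≤ normalizer (OG p M₂ : Set G) := le_normalizer.trans (OG_le_normalizer p M₂)
  have hQ₁D : OG p M₁ ≤ M₁ ⊓ M₂ := le_sup_left.trans hO
  have hQ₂D : OG p M₂ ≤ M₁ ⊓ M₂ := le_sup_right.trans hO
  have hQ₁0 : OG p M₁ ≠ ⊥ := by
    intro h
    have e1 := eq_bot_of_OG M₁ hc₁ h
    have e2 : OG p M₂ = ⊥ := by
      rw [eq_bot_iff]
      refine hQ₂D.trans ?_
      rw [e1]
      exact inf_le_left
    have e3 := eq_bot_of_OG M₂ hc₂ e2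
    exact hne (e1.trans e3.symm)
  have hQ₂0 : OG p M₂ ≠ ⊥ := by
    intro h
    have e1 := eq_bot_of_OG M₂ hc₂ h
    have e2 : OG p M₁ = ⊥ := by
      rw [eq_bot_iff]
      refine hQ₁D.trans ?_
      rw [e1]
      exact inf_le_right
    exact hQ₁0 e2
  by_cases hp : p = 2
  · subst hp
    have e1 : OG 2 M₁ ≤ OG 2 M₂ :=
      le_OG_of_abelian_sylow M₂ hc₂ h₂ _ (hQ₁D.trans inf_le_right) (OG_isPGroup 2 M₁)
    have e2 : OG 2 M₂ ≤ OG 2 M₁ :=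
      le_OG_of_abelian_sylow M₁ hc₁ h₁ _ (hQ₂D.trans inf_le_left) (OG_isPGroup 2 M₂)
    have e : OG 2 M₁ = OG 2 M₂ := le_antisymm e1 e2
    apply hne
    refine eq_of_common_normal M₁ M₂ hP (OG 2 M₁) hQ₁0 hQ₁D hM₁Q₁ ?_
    rw [e]
    exact hM₂Q₂
  · obtain ⟨x, y, hxy, hxyne⟩ :=
      Cfsg.Agent.Lib.Helper11.QuadSylow.exists_nonabelian_two_subgroup (p := p) hp
    obtain ⟨T₁⟩ := (inferInstance : Nonempty (Sylow 2 ↥M₁))
    obtain ⟨T₂⟩ := (inferInstance : Nonempty (Sylow 2 ↥M₂))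
    have hf₁ : ¬ Cfsg.Involves (Matrix.SpecialLinearGroup (Fin 2) (ZMod p)) ↥M₁ :=
      Cfsg.Agent.Lib.Helper11.QuadStable.not_involves_of_sylow_comm T₁ (h₁ T₁) x y hxy hxyne
    have hf₂ : ¬ Cfsg.Involves (Matrix.SpecialLinearGroup (Fin 2) (ZMod p)) ↥M₂ :=
      Cfsg.Agent.Lib.Helper11.QuadStable.not_involves_of_sylow_comm T₂ (h₂ T₂) x y hxy hxyne
    have hP₂ : ∀ A : Subgroup G, A ≠ ⊥ → A ≤ M₁ ⊓ M₂ → M₂ ≤ normalizer (A : Set G) →
        M₁ ⊓ normalizer (A : Set G) ≤ M₂ := by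
      intro A hA0 hAD hA
      rw [((hP A hA0 hAD).2 hA)]
      exact inf_le_right
    have hP₁ : ∀ A : Subgroup G, A ≠ ⊥ → A ≤ M₂ ⊓ M₁ → M₁ ≤ normalizer (A : Set G) →
        M₂ ⊓ normalizer (A : Set G) ≤ M₁ := by
      intro A hA0 hAD hA
      rw [((hP A hA0 (by rw [inf_comm]; exact hAD)).1 hA)]
      exact inf_le_left
    have hO' : OG p M₂ ⊔ OG p M₁ ≤ M₂ ⊓ M₁ := by
      rw [sup_comm, inf_comm]
      exact hO
    obtain ⟨k1, k1'⟩ := key hp M₁ M₂ hO hP₂ (amb_a hp M₁ hf₁ hc₁) (amb_b hp M₂ hf₂ hQ₂0)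
      (amb_c hp M₁ hf₁)
    obtain ⟨k2, -⟩ := key hp M₂ M₁ hO' hP₁ (amb_a hp M₂ hf₂ hc₂) (amb_b hp M₁ hf₁ hQ₁0)
      (amb_c hp M₂ hf₂)
    have hF : IsFam p (famA (G := G)) := isFam_famA hp
    have e : sInf (famA (OG p M₁)) = sInf (famA (OG p M₂)) := by
      rw [← k1, ← k2, sup_comm]
    apply hne
    refine eq_of_common_normal M₁ M₂ hP (sInf (famA (OG p M₁))) k1'
      ((sInf_le_self hF _).trans hQ₁D) (hM₁Q₁.trans (normalizer_le hF _)) ?_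
    rw [e]
    exact hM₂Q₂.trans (normalizer_le hF _)

end Cfsg.Agent.Lib.Helper51.PrimPairB
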