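import Mathlib
import Cfsg.Agent.Lib.Helper54.S52Stmt

/-!
# S1352 piece UEX: a Hall subgroup `K` of `E` with `K ⊓ E' = ⊥` has a normal complement in `E`

`U` is the image in `G` of the kernel of `E → E / E' → E / E'`, the second map being the
`n`-th power map, `n = K.relIndex E`.
-/

set_option autoImplicit false

namespace Cfsg.Agent.Lib.Helper51.S52UEX

universe u

theorem main : Cfsg.Agent.Lib.Helper54.S52Stmt.UEx.{u} := by
  intro G _ _ E K hKE hcop hKE'
  classical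
  set n := K.relIndex E with hn
  set k := Nat.card K with hk
  let φ : E →* Abelianization E := Abelianization.of
  let ψ : E →* Abelianization E := (powMonoidHom n).comp φ
  have hφsurj : Function.Surjective φ := QuotientGroup.mk_surjective
  have hψ : ∀ x : E, ψ x = φ x ^ n := fun x => rfl
  -- conjugation by elements of `E`
  have hconj : ∀ g ∈ E, ∀ h ∈ ψ.ker.map E.subtype, g * h * g⁻¹ ∈ ψ.ker.map E.subtype := by
    rintro g hg _ ⟨x, hx, rfl⟩
    exact ⟨⟨g, hg⟩ * x * ⟨g, hg⟩⁻¹, (MonoidHom.normal_ker ψ).conj_mem x hx ⟨g, hg⟩, rfl⟩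
  refine ⟨ψ.ker.map E.subtype, ?_, ?_, ?_, ?_⟩
  · rintro _ ⟨x, -, rfl⟩
    exact x.2
  · rw [eq_bot_iff]
    rintro _ ⟨⟨x, hx, rfl⟩, hxK⟩
    have h1 : φ (x ^ n) = 1 := by
      rw [map_pow, ← hψ]
      exact hx
    have h2 : x ^ n ∈ commutator E := by
      rw [← Abelianization.ker_of]
      exact h1
    have h3 : ((x ^ n : E) : G) ∈ ⁅E, E⁆ := by
      rw [← Subgroup.map_subtype_commutator]
      exact ⟨x ^ n, h2, rfl⟩
    have hxK' : (x : G) ∈ K := hxK
    have h4 : (x : G) ^ n = 1 := by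
      have h5 : (x : G) ^ n ∈ K ⊓ ⁅E, E⁆ := ⟨pow_mem hxK' n, by simpa using h3⟩
      rw [hKE'] at h5
      exact h5
    have h5 : (x : G) ^ k = 1 := by
      have h6 : (⟨(x : G), hxK'⟩ : K) ^ k = 1 := pow_card_eq_one'
      exact congrArg Subtype.val h6
    have h6 : orderOf (x : G) ∣ Nat.gcd k n :=
      Nat.dvd_gcd (orderOf_dvd_of_pow_eq_one h5) (orderOf_dvd_of_pow_eq_one h4)
    have h7 : Nat.gcd k n = 1 := hcop
    rw [h7] at h6
    have h8 : (x : G) = 1 := orderOf_eq_one_iff.mp (Nat.dvd_one.mp h6)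
    simpa using h8
  · intro e he
    rw [Subgroup.mem_normalizer_iff]
    intro h
    constructor
    · intro hh
      exact hconj e he h hh
    · intro hh
      have h1 := hconj e⁻¹ (inv_mem he) _ hh
      have h2 : e⁻¹ * (e * h * e⁻¹) * e⁻¹⁻¹ = h := by group
      rwa [h2] at h1
  · intro e he
    set e' : E := ⟨e, he⟩ with he'
    set K' : Subgroup E := K.subgroupOf E with hK'
    have hidx : (K'.map φ).index ∣ n := Subgroup.index_map_dvd K' hφsurj
    have h1 : φ e' ^ (K'.map φ).index ∈ K'.map φ := Subgroup.pow_index_mem _ _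
    have h2 : φ e' ^ n ∈ K'.map φ := by
      obtain ⟨j, hj⟩ := hidx
      rw [hj, pow_mul]
      exact pow_mem h1 j
    obtain ⟨κ₀, hκ₀, hκ₀a⟩ := h2
    have hκ₀K : (κ₀ : G) ∈ K := Subgroup.mem_subgroupOf.mp hκ₀
    have hκ₀k : κ₀ ^ k = 1 := by
      have h6 : (⟨(κ₀ : G), hκ₀K⟩ : K) ^ k = 1 := pow_card_eq_one'
      have h7 : (κ₀ : G) ^ k = 1 := congrArg Subtype.val h6
      exact Subtype.ext (by simpa using h7)
    have hbez : (1 : ℤ) = (n : ℤ) * Nat.gcdA n k + (k : ℤ) * Nat.gcdB n k := by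
      have h3 := Nat.gcd_eq_gcd_ab n k
      have h4 : Nat.gcd n k = 1 := Nat.Coprime.symm hcop
      rw [h4] at h3
      simpa using h3
    set κ : E := κ₀ ^ (Nat.gcdA n k) with hκ
    have hκK' : κ ∈ K' := zpow_mem hκ₀ _
    have hκn : κ ^ n = κ₀ := by
      have h3 : κ₀ ^ ((n : ℤ) * Nat.gcdA n k + (k : ℤ) * Nat.gcdB n k) = κ₀ := by
        rw [← hbez, zpow_one]
      rw [zpow_add, zpow_mul, zpow_mul, zpow_natCast, zpow_natCast, hκ₀k, one_zpow, mul_one] at h3
      rw [hκ, ← zpow_natCast, ← zpow_mul, mul_comm, zpow_mul, zpow_natCast]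
      exact h3
    refine ⟨(e' * κ⁻¹ : E), ⟨e' * κ⁻¹, ?_, rfl⟩, (κ : G), Subgroup.mem_subgroupOf.mp hκK', ?_⟩
    · have h9 : φ κ ^ n = φ κ₀ := by rw [← map_pow, hκn]
      rw [SetLike.mem_coe, MonoidHom.mem_ker, hψ, map_mul, map_inv, mul_pow, inv_pow, h9, hκ₀a]
      exact mul_inv_cancel _
    · simp [he']

end Cfsg.Agent.Lib.Helper51.S52UEX
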