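import Mathlib
import Cfsg.Prelude.Def_OddOrderLocal

/-!
# S1356 piece CLE, pure part (helper51)

`key`: a normal subgroup meeting a Hall complement trivially lies in the normal complement.
`main_of`: the piece CLE from the cited facts, given as hypotheses.
-/

set_option autoImplicit false

namespace Cfsg.Agent.Lib.Helper51.S56CLEof

universe u

open scoped commutatorElement

theorem key {X : Type u} [Group X] [Finite X] (N K C : Subgroup X) [N.Normal] [C.Normal]
    (hNK : N ⊓ K = ⊥) (hsup : N ⊔ K = ⊤) (hH : (Nat.card ↥K).Coprime K.index)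
    (hCK : C ⊓ K = ⊥) : C ≤ N := by
  have hKpos : 0 < Nat.card ↥K := Nat.card_pos
  have hNi : N.index = Nat.card ↥K := by
    have h1 : N.relIndex (N ⊔ K) = N.relIndex K := Subgroup.relIndex_sup_left K N
    rw [hsup, Subgroup.relIndex_top_right] at h1
    rw [h1, ← Subgroup.inf_relIndex_right, hNK, Subgroup.relIndex_bot_left]
  have hKi : K.index = Nat.card ↥N := by
    have h1 := Subgroup.card_mul_index N
    have h2 := Subgroup.card_mul_index K
    rw [hNi] at h1
    have h3 : Nat.card ↥K * K.index = Nat.card ↥K * Nat.card ↥N := by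
      rw [h2, ← h1, mul_comm]
    exact Nat.eq_of_mul_eq_mul_left hKpos h3
  have hCdvd : Nat.card ↥K ∣ C.index := by
    have h1 : C.relIndex K ∣ C.index := Subgroup.relIndex_dvd_index_of_normal C K
    rwa [← Subgroup.inf_relIndex_right, hCK, Subgroup.relIndex_bot_left] at h1
  have hCN : Nat.card ↥C ∣ Nat.card ↥N := by
    obtain ⟨t, ht⟩ := hCdvd
    have h1 := Subgroup.card_mul_index N
    have h2 := Subgroup.card_mul_index C
    rw [hNi] at h1
    rw [ht] at h2
    refine ⟨t, ?_⟩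
    have h3 : Nat.card ↥K * Nat.card ↥N = Nat.card ↥K * (Nat.card ↥C * t) := by
      rw [mul_comm, h1, ← h2]; ring
    exact Nat.eq_of_mul_eq_mul_left hKpos h3
  have hcop : (Nat.card ↥K).Coprime (Nat.card ↥C) := by
    rw [hKi] at hH
    exact Nat.Coprime.coprime_dvd_right hCN hH
  intro c hc
  have h1 : orderOf (QuotientGroup.mk' N c) ∣ Nat.card ↥C :=
    (orderOf_map_dvd (QuotientGroup.mk' N) c).trans (Subgroup.orderOf_dvd_natCard C hc)
  have h2 : orderOf (QuotientGroup.mk' N c) ∣ Nat.card ↥K := by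
    rw [← hNi, Subgroup.index_eq_card]
    exact orderOf_dvd_natCard _
  have h3 : orderOf (QuotientGroup.mk' N c) ∣ Nat.gcd (Nat.card ↥K) (Nat.card ↥C) :=
    Nat.dvd_gcd h2 h1
  rw [hcop.gcd_eq_one, Nat.dvd_one, orderOf_eq_one_iff] at h3
  exact (QuotientGroup.eq_one_iff c).1 h3

theorem main_of {G : Type u} [Group G] [Finite G] (M K U : Subgroup G)
    (hcompl : Cfsg.IsComplIn (Cfsg.sigmaCore M ⊔ U) K M)
    (hhall : Cfsg.IsPiHallOf (Cfsg.kappa M) K M)
    (hder : ⁅M, M⁆ = U ⊔ Cfsg.sigmaCore M)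
    (hFs : Cfsg.fittingHallOf M ≤ Cfsg.sigmaCore M)
    (hprim : ∀ x ∈ K, x ≠ 1 → Cfsg.sigmaCore M ⊓ Subgroup.centralizer ({x} : Set G) =
      Cfsg.sigmaCore M ⊓ Subgroup.centralizer (K : Set G))
    (hcyc : IsCyclic ↥(Cfsg.sigmaCore M ⊓ Subgroup.centralizer (K : Set G)))
    (hncyc : ¬ IsCyclic ↥(Cfsg.fittingHallOf M)) :
    M ⊓ Subgroup.centralizer ((Cfsg.fittingHallOf M : Subgroup G) : Set G) ≤ ⁅M, M⁆ := by
  obtain ⟨hNM, hKM, hNK, hprod⟩ := hcompl
  have hNeq : Cfsg.sigmaCore M ⊔ U = ⁅M, M⁆ := by rw [hder, sup_comm]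
  rw [hNeq] at hNM hNK hprod
  have hNn : ((⁅M, M⁆ : Subgroup G).subgroupOf M).Normal := by
    refine ⟨fun n hn g => ?_⟩
    rw [Subgroup.mem_subgroupOf] at hn ⊢
    have h1 : ((g * n * g⁻¹ : ↥M) : G) = ⁅(g : G), (n : G)⁆ * (n : G) := by
      simp [commutatorElement_def]
    rw [h1]
    exact Subgroup.mul_mem _ (Subgroup.commutator_mem_commutator g.2 n.2) hn
  have hCn : (Subgroup.centralizer
      ((Cfsg.fittingHall ↥M : Subgroup ↥M) : Set ↥M)).Normal := Subgroup.normal_centralizer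
  have hNK' : (⁅M, M⁆ : Subgroup G).subgroupOf M ⊓ K.subgroupOf M = ⊥ := by
    rw [eq_bot_iff]
    intro x hx
    have h1 : (x : G) ∈ (⁅M, M⁆ : Subgroup G) ⊓ K :=
      ⟨Subgroup.mem_subgroupOf.1 hx.1, Subgroup.mem_subgroupOf.1 hx.2⟩
    rw [hNK] at h1
    rw [Subgroup.mem_bot] at h1 ⊢
    exact Subtype.ext h1
  have hsup' : (⁅M, M⁆ : Subgroup G).subgroupOf M ⊔ K.subgroupOf M = ⊤ := by
    rw [eq_top_iff]
    intro x _
    obtain ⟨n, hn, k, hk, hxe⟩ := hprod x x.2
    have h1 : x = (⟨n, hNM hn⟩ : ↥M) * ⟨k, hKM hk⟩ := Subtype.ext hxe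
    rw [h1]
    exact Subgroup.mul_mem_sup (Subgroup.mem_subgroupOf.2 hn) (Subgroup.mem_subgroupOf.2 hk)
  have hcardK : Nat.card ↥(K.subgroupOf M) = Nat.card ↥K :=
    Nat.card_congr (Subgroup.subgroupOfEquivOfLe hKM).toEquiv
  have hH : (Nat.card ↥(K.subgroupOf M)).Coprime (K.subgroupOf M).index := by
    rw [hcardK]
    by_contra hnot
    obtain ⟨p, hp, hp1, hp2⟩ := Nat.Prime.not_coprime_iff_dvd.1 hnot
    exact hhall.2.2 p hp (hhall.2.1 p hp hp1) hp2
  have hCK' : Subgroup.centralizer ((Cfsg.fittingHall ↥M : Subgroup ↥M) : Set ↥M) ⊓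
      K.subgroupOf M = ⊥ := by
    rw [eq_bot_iff]
    intro x hx
    rw [Subgroup.mem_bot]
    by_contra hx1
    have hxK : (x : G) ∈ K := Subgroup.mem_subgroupOf.1 hx.2
    have hxne : (x : G) ≠ 1 := fun h => hx1 (Subtype.ext h)
    have hle : Cfsg.fittingHallOf M ≤
        Cfsg.sigmaCore M ⊓ Subgroup.centralizer (K : Set G) := by
      rw [← hprim (x : G) hxK hxne]
      refine le_inf hFs ?_
      intro y hy
      obtain ⟨h, hh, rfl⟩ := Subgroup.mem_map.1 hy
      rw [Subgroup.mem_centralizer_iff]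
      intro z hz
      rw [Set.mem_singleton_iff] at hz
      rw [hz]
      have h2 := (Subgroup.mem_centralizer_iff.1 hx.1) h hh
      have h3 := congrArg Subtype.val h2
      simpa using h3.symm
    exact hncyc (isCyclic_of_injective (Subgroup.inclusion hle) (Subgroup.inclusion_injective hle))
  have hkey := key ((⁅M, M⁆ : Subgroup G).subgroupOf M) (K.subgroupOf M)
    (Subgroup.centralizer ((Cfsg.fittingHall ↥M : Subgroup ↥M) : Set ↥M)) hNK' hsup' hH hCK'
  intro c hc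
  have hcM : c ∈ M := hc.1
  have h1 : (⟨c, hcM⟩ : ↥M) ∈
      Subgroup.centralizer ((Cfsg.fittingHall ↥M : Subgroup ↥M) : Set ↥M) := by
    rw [Subgroup.mem_centralizer_iff]
    intro h hh
    apply Subtype.ext
    have h2 : (h : G) ∈ Cfsg.fittingHallOf M := Subgroup.mem_map_of_mem M.subtype hh
    exact (Subgroup.mem_centralizer_iff.1 hc.2) (h : G) h2
  exact Subgroup.mem_subgroupOf.1 (hkey h1)

end Cfsg.Agent.Lib.Helper51.S56CLEof
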