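import Mathlib
import Cfsg.Prelude.Def_OddOrderLocal

/-!
# S1381 piece FHD, pure part (helper51)
-/

set_option autoImplicit false

namespace Cfsg.Agent.Lib.Helper51.S81FHDof

universe u

theorem pure_le {Y : Type u} [Group Y] [Finite Y] (S F : Subgroup Y) [S.Normal] [F.Normal]
    (hNC : ∀ a b : ↥F, (orderOf a).Coprime (orderOf b) → a * b = b * a)
    (hFh : (Nat.card ↥F).Coprime F.index)
    (hSh : (Nat.card ↥S).Coprime S.index)
    (hSF : S ≤ F)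
    (hbad : ∀ r : ℕ, r.Prime → r ∣ Nat.card ↥F → ¬ r ∣ Nat.card ↥S →
       ∃ u : Y, orderOf u = r ∧ ∃ y ∈ S, u * y ≠ y * u) : F ≤ S := by
  have hmem : ∀ (N : Subgroup Y) [N.Normal] (x : Y), (orderOf x).Coprime N.index → x ∈ N := by
    intro N _ x hcop
    have h1 : orderOf (QuotientGroup.mk' N x) ∣ orderOf x := orderOf_map_dvd _ x
    have h2 : orderOf (QuotientGroup.mk' N x) ∣ N.index := by
      rw [Subgroup.index_eq_card]
      exact orderOf_dvd_natCard _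
    have h3 := Nat.dvd_gcd h1 h2
    rw [hcop.gcd_eq_one, Nat.dvd_one, orderOf_eq_one_iff] at h3
    exact (QuotientGroup.eq_one_iff x).1 h3
  have hprime : ∀ r : ℕ, r.Prime → r ∣ Nat.card ↥F → r ∣ Nat.card ↥S := by
    intro r hr hrF
    by_contra hrS
    obtain ⟨u, hu, y, hy, hne⟩ := hbad r hr hrF hrS
    have huF : u ∈ F := by
      apply hmem F u
      rw [hu]
      exact Nat.Coprime.coprime_dvd_left hrF hFh
    have hcop : (orderOf (⟨u, huF⟩ : ↥F)).Coprime (orderOf (⟨y, hSF hy⟩ : ↥F)) := by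
      rw [Subgroup.orderOf_mk, Subgroup.orderOf_mk, hu]
      have h1 : orderOf y ∣ Nat.card ↥S := Subgroup.orderOf_dvd_natCard S hy
      exact Nat.Coprime.coprime_dvd_right h1 ((Nat.Prime.coprime_iff_not_dvd hr).2 hrS)
    have h2 := hNC ⟨u, huF⟩ ⟨y, hSF hy⟩ hcop
    exact hne (congrArg Subtype.val h2)
  intro x hx
  apply hmem S x
  by_contra hnot
  obtain ⟨r, hr, hr1, hr2⟩ := Nat.Prime.not_coprime_iff_dvd.1 hnot
  have hrF : r ∣ Nat.card ↥F := hr1.trans (Subgroup.orderOf_dvd_natCard F hx)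
  have hrS := hprime r hr hrF
  exact (Nat.Prime.coprime_iff_not_dvd hr).1 (Nat.Coprime.coprime_dvd_left hrS hSh) hr2

theorem core {G : Type u} [Group G] [Finite G] (M U S U₀ : Subgroup G)
    (hUM : U ≤ M) (hSM : S ≤ M)
    (hconj : ∀ g ∈ M, ∀ n ∈ S, g * n * g⁻¹ ∈ S)
    (hSnil : Group.IsNilpotent ↥S)
    (hS1 : ∀ p : ℕ, p.Prime → p ∣ Nat.card ↥S → ¬ p ∣ S.relIndex M)
    (hSne : S ≠ ⊥)
    (hU₀U : U₀ ≤ U) (hexp : Monoid.exponent ↥U₀ = Monoid.exponent ↥U)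
    (hU₀ : ∀ u ∈ U₀, (∃ y ∈ S, y ≠ 1 ∧ u * y = y * u) → u = 1)
    (hNC : ∀ {F : Type u} [Group F] [Finite F], Group.IsNilpotent F →
      ∀ a b : F, (orderOf a).Coprime (orderOf b) → a * b = b * a)
    (hFHH : ∀ {Y : Type u} [Group Y] [Finite Y],
      (Nat.card ↥(Cfsg.fittingHall Y)).Coprime (Cfsg.fittingHall Y).index)
    (hFnil : ∀ {Y : Type u} [Group Y] [Finite Y], Group.IsNilpotent ↥(Cfsg.fittingHall Y)) :
    Cfsg.fittingHallOf (U ⊔ S) = S := by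
  have hSY : S ≤ U ⊔ S := le_sup_right
  have hUY : U ≤ U ⊔ S := le_sup_left
  have hYM : U ⊔ S ≤ M := sup_le hUM hSM
  have hS'n : (S.subgroupOf (U ⊔ S)).Normal := by
    refine ⟨fun n hn g => ?_⟩
    rw [Subgroup.mem_subgroupOf] at hn ⊢
    exact hconj _ (hYM g.2) _ hn
  have hcardS' : Nat.card ↥(S.subgroupOf (U ⊔ S)) = Nat.card ↥S :=
    Nat.card_congr (Subgroup.subgroupOfEquivOfLe hSY).toEquiv
  have hSh : (Nat.card ↥(S.subgroupOf (U ⊔ S))).Coprime (S.subgroupOf (U ⊔ S)).index := by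
    rw [hcardS']
    by_contra hnot
    obtain ⟨p, hp, hp1, hp2⟩ := Nat.Prime.not_coprime_iff_dvd.1 hnot
    have hp2' : p ∣ S.relIndex (U ⊔ S) := hp2
    have hp3 : p ∣ S.relIndex M :=
      hp2'.trans (Dvd.intro _ (Subgroup.relIndex_mul_relIndex _ _ _ hSY hYM))
    exact hS1 p hp hp1 hp3
  have hS'nil : Group.IsNilpotent ↥(S.subgroupOf (U ⊔ S)) :=
    @Group.nilpotent_of_mulEquiv _ _ _ _ hSnil (Subgroup.subgroupOfEquivOfLe hSY).symm
  have hS'F : S.subgroupOf (U ⊔ S) ≤ Cfsg.fittingHall ↥(U ⊔ S) :=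
    le_sSup ⟨hS'n, hS'nil, hSh⟩
  have hsup : S.subgroupOf (U ⊔ S) ⊔ U.subgroupOf (U ⊔ S) = ⊤ := by
    rw [← Subgroup.subgroupOf_sup hSY hUY, sup_comm, Subgroup.subgroupOf_self]
  have hbad : ∀ r : ℕ, r.Prime → r ∣ Nat.card ↥(Cfsg.fittingHall ↥(U ⊔ S)) →
      ¬ r ∣ Nat.card ↥(S.subgroupOf (U ⊔ S)) →
      ∃ u : ↥(U ⊔ S), orderOf u = r ∧ ∃ y ∈ S.subgroupOf (U ⊔ S), u * y ≠ y * u := by
    intro r hr hrF hrS
    have hrFact : Fact r.Prime := ⟨hr⟩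
    have h1 : r ∣ Nat.card ↥(U ⊔ S) := hrF.trans (Subgroup.card_subgroup_dvd_card _)
    have h2 : r ∣ (S.subgroupOf (U ⊔ S)).index := by
      rw [← Subgroup.card_mul_index (S.subgroupOf (U ⊔ S))] at h1
      exact (hr.dvd_mul.1 h1).resolve_left hrS
    have h3 : r ∣ Nat.card ↥U := by
      have h4 : (S.subgroupOf (U ⊔ S)).relIndex (S.subgroupOf (U ⊔ S) ⊔ U.subgroupOf (U ⊔ S)) =
          (S.subgroupOf (U ⊔ S)).relIndex (U.subgroupOf (U ⊔ S)) :=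
        Subgroup.relIndex_sup_left _ _
      rw [hsup, Subgroup.relIndex_top_right] at h4
      rw [h4] at h2
      have h5 := h2.trans (Subgroup.relIndex_dvd_card _ _)
      rwa [Nat.card_congr (Subgroup.subgroupOfEquivOfLe hUY).toEquiv] at h5
    obtain ⟨u1, hu1⟩ := exists_prime_orderOf_dvd_card' r h3
    have h6 : r ∣ Monoid.exponent ↥U := by
      rw [← hu1]
      exact Monoid.order_dvd_exponent u1
    rw [← hexp] at h6
    have h7 : r ∣ Nat.card ↥U₀ := h6.trans Group.exponent_dvd_nat_card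
    obtain ⟨u0, hu0⟩ := exists_prime_orderOf_dvd_card' r h7
    have hu0ne : (u0 : G) ≠ 1 := by
      intro h
      have h8 : u0 = 1 := Subtype.ext h
      rw [h8, orderOf_one] at hu0
      exact hr.one_lt.ne hu0
    obtain ⟨y, hy, hy1⟩ : ∃ y ∈ S, y ≠ 1 := by
      by_contra hcon
      push_neg at hcon
      exact hSne ((Subgroup.eq_bot_iff_forall _).2 hcon)
    refine ⟨⟨(u0 : G), hUY (hU₀U u0.2)⟩, ?_, ⟨y, hSY hy⟩, Subgroup.mem_subgroupOf.2 hy, ?_⟩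
    · rw [Subgroup.orderOf_mk, Subgroup.orderOf_coe, hu0]
    · intro hcomm
      exact hu0ne (hU₀ _ u0.2 ⟨y, hy, hy1, congrArg Subtype.val hcomm⟩)
  have hle := pure_le (S.subgroupOf (U ⊔ S)) (Cfsg.fittingHall ↥(U ⊔ S))
    (hNC hFnil) hFHH hSh hS'F hbad
  have heq : Cfsg.fittingHall ↥(U ⊔ S) = S.subgroupOf (U ⊔ S) := le_antisymm hle hS'F
  show (Cfsg.fittingHall ↥(U ⊔ S)).map (U ⊔ S).subtype = S
  rw [heq, Subgroup.map_subgroupOf_eq_of_le hSY]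

end Cfsg.Agent.Lib.Helper51.S81FHDof
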