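import Mathlib
import Cfsg.Agent.Lib.Helper43.SPStmt

set_option autoImplicit false

/-! S2720 piece SIGN: a permutation all of whose cycles have length `2 ^ (a+1)` on a set of
cardinality an odd multiple of `2 ^ (a+1)` is odd. -/

namespace Cfsg.Agent.Lib.Helper51.SPSIGN

universe u

theorem sign_aux {X : Type u} [Fintype X] [DecidableEq X] (π : Equiv.Perm X) (a : ℕ)
    (h1 : π ^ (2 ^ (a + 1)) = 1) (h2 : ∀ x, (π ^ (2 ^ a)) x ≠ x)
    (_h3 : 2 ^ (a + 1) ∣ Fintype.card X)
    (h4 : Odd (Fintype.card X / 2 ^ (a + 1))) : Equiv.Perm.sign π = -1 := by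
  classical
  -- every cycle has length 2^(a+1)
  have hcyc : ∀ n ∈ π.cycleType, n = 2 ^ (a + 1) := by
    intro n hn
    have hdvd : n ∣ 2 ^ (a + 1) :=
      (Equiv.Perm.dvd_of_mem_cycleType hn).trans (orderOf_dvd_of_pow_eq_one h1)
    rw [Equiv.Perm.cycleType_def, Multiset.mem_map] at hn
    obtain ⟨c, hc, hcn⟩ := hn
    have hc' : c ∈ π.cycleFactorsFinset := hc
    have hcyc := (Equiv.Perm.mem_cycleFactorsFinset_iff.1 hc').1
    obtain ⟨x, hx⟩ := hcyc.nonempty_support
    have hceq : c = π.cycleOf x := Equiv.Perm.cycle_is_cycleOf hx hc'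
    have hn' : n = (π.cycleOf x).support.card := by
      rw [← hceq]; exact hcn.symm
    obtain ⟨j, hj, hnj⟩ := (Nat.dvd_prime_pow Nat.prime_two).1 hdvd
    rcases Nat.lt_or_ge a j with hlt | hge
    · have : j = a + 1 := by omega
      rw [hnj, this]
    · exfalso
      have hdvd2 : n ∣ 2 ^ a := by
        rw [hnj]; exact pow_dvd_pow 2 hge
      have := Equiv.Perm.pow_mod_card_support_cycleOf_self_apply π (2 ^ a) x
      rw [← hn', Nat.mod_eq_zero_of_dvd hdvd2, pow_zero] at this
      exact h2 x this.symm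
  have hrep : π.cycleType = Multiset.replicate (Multiset.card π.cycleType) (2 ^ (a + 1)) :=
    Multiset.eq_replicate_card.2 hcyc
  have hsupp : π.support = Finset.univ := by
    ext x
    simp only [Equiv.Perm.mem_support, Finset.mem_univ, iff_true]
    intro hx
    apply h2 x
    have : ∀ m : ℕ, (π ^ m) x = x := by
      intro m
      induction m with
      | zero => simp
      | succ m ih => rw [pow_succ, Equiv.Perm.mul_apply, hx, ih]
    exact this _
  have hsum : π.cycleType.sum = Fintype.card X := by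
    rw [Equiv.Perm.sum_cycleType, hsupp, Finset.card_univ]
  have hsum2 : Multiset.card π.cycleType * 2 ^ (a + 1) = Fintype.card X := by
    rw [← hsum]
    conv_rhs => rw [hrep]
    rw [Multiset.sum_replicate, smul_eq_mul]
  have hcard : Multiset.card π.cycleType = Fintype.card X / 2 ^ (a + 1) := by
    rw [← hsum2, Nat.mul_div_cancel _ (by positivity)]
  rw [Equiv.Perm.sign_of_cycleType, hsum, ← hsum2]
  have hodd : Odd (Multiset.card π.cycleType) := hcard ▸ h4
  have heven : Even (Multiset.card π.cycleType * 2 ^ (a + 1)) := by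
    rw [pow_succ, ← mul_assoc]
    exact even_two.mul_left _
  exact (heven.add_odd hodd).neg_one_pow

theorem main : Cfsg.Agent.Lib.Helper43.SPStmt.SignP.{u} := by
  intro X _ _ π a h1 h2 h3 h4
  exact sign_aux π a h1 h2 h3 h4

end Cfsg.Agent.Lib.Helper51.SPSIGN
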