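import Mathlib
import Cfsg.Agent.Lib.Helper14.TC3Stmt

/-!
# S4460 piece CHIEFP: chief factors above a normal subgroup of `p`-power index have order `p`.
-/

set_option autoImplicit false

namespace Cfsg.Agent.Lib.Helper51.TC3CHIEFP

open Cfsg.Agent.Lib.Helper14.TC3Stmt

universe u

/-- a nontrivial normal subgroup of a finite `p`-group contains a central element of order `p`. -/
theorem exists_central_orderOf_eq {Q : Type u} [Group Q] [Finite Q] {p : ℕ} [Fact p.Prime]
    (hQ : IsPGroup p Q) (N : Subgroup Q) [N.Normal] (hN : N ≠ ⊥) :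
    ∃ c : Q, c ∈ N ∧ c ∈ Subgroup.center Q ∧ orderOf c = p := by
  classical
  have hNnt : Nontrivial N := (Subgroup.nontrivial_iff_ne_bot N).mpr hN
  have hpN : p ∣ Nat.card N := by
    obtain ⟨n, hn0, hn⟩ := (hQ.to_subgroup N).nontrivial_iff_card.mp hNnt
    rw [hn]; exact dvd_pow_self p hn0.ne'
  have h1 := (hQ.of_equiv ConjAct.toConjAct).exists_fixed_point_of_prime_dvd_card_of_fixed_point
    N hpN (a := (1 : N)) (by intro g; exact smul_one g)
  obtain ⟨b, hb, hb1⟩ := h1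
  have hbc : (b : Q) ∈ Subgroup.center Q := by
    rw [Subgroup.mem_center_iff]
    intro q
    have h2 := hb (ConjAct.toConjAct q)
    have h3 : ((ConjAct.toConjAct q • b : N) : Q) = (b : Q) := by rw [h2]
    rw [ConjAct.Subgroup.val_conj_smul, ConjAct.toConjAct_smul] at h3
    calc q * (b : Q) = q * (b : Q) * q⁻¹ * q := by group
      _ = (b : Q) * q := by rw [h3]
  set C : Subgroup Q := N ⊓ Subgroup.center Q with hC
  have hCnt : Nontrivial C := by
    refine ⟨⟨⟨(b : Q), Subgroup.mem_inf.mpr ⟨b.2, hbc⟩⟩, 1, ?_⟩⟩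
    intro h
    apply hb1
    have h4 : (b : Q) = 1 := congrArg (Subtype.val) h
    exact (Subtype.ext h4).symm
  obtain ⟨n, hn0, hn⟩ := (hQ.to_subgroup C).nontrivial_iff_card.mp hCnt
  have hpC : p ∣ Nat.card C := by rw [hn]; exact dvd_pow_self p hn0.ne'
  obtain ⟨c, hc⟩ := exists_prime_orderOf_dvd_card' p hpC
  have hcm := Subgroup.mem_inf.mp c.2
  exact ⟨c, hcm.1, hcm.2, by rw [Subgroup.orderOf_coe]; exact hc⟩

theorem main : ChiefP.{u} := by
  intro G _ _ A p hA hp hk H K L hAL hLK hKH hKinv hLinv hchief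
  obtain ⟨k, hk⟩ := hk
  classical
  haveI : Fact p.Prime := ⟨hp⟩
  set L' : Subgroup H := L.subgroupOf H with hL'
  set K' : Subgroup H := K.subgroupOf H with hK'
  have hLH : L ≤ H := hLK.le.trans hKH
  have hL'n : L'.Normal := ⟨fun l hl h => by
    rw [hL', Subgroup.mem_subgroupOf] at hl ⊢
    simpa using hLinv h h.2 l hl⟩
  have hK'n : K'.Normal := ⟨fun l hl h => by
    rw [hK', Subgroup.mem_subgroupOf] at hl ⊢
    simpa using hKinv h h.2 l hl⟩
  -- the quotient is a `p`-group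
  have hQ : IsPGroup p (H ⧸ L') := by
    have h1 : Nat.card (H ⧸ L') = L.relIndex H := rfl
    have h2 : L.relIndex H ∣ p ^ k := by
      rw [← hk]
      exact (Subgroup.relIndex_dvd_of_le_left H hAL).trans (Subgroup.relIndex_dvd_index_of_normal A H)
    obtain ⟨j, -, hj⟩ := (Nat.dvd_prime_pow hp).mp h2
    exact IsPGroup.of_card (n := j) (h1.trans hj)
  set mk : H →* H ⧸ L' := QuotientGroup.mk' L' with hmk
  have hmks : Function.Surjective mk := QuotientGroup.mk'_surjective L'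
  set N : Subgroup (H ⧸ L') := K'.map mk with hN
  have hNn : N.Normal := Subgroup.Normal.map hK'n mk hmks
  have hmk1 : ∀ h : H, mk h = 1 ↔ (h : G) ∈ L := by
    intro h
    rw [hmk, QuotientGroup.mk'_apply, QuotientGroup.eq_one_iff, hL', Subgroup.mem_subgroupOf]
  have hNne : N ≠ ⊥ := by
    obtain ⟨x, hxK, hxL⟩ := SetLike.exists_of_lt hLK
    intro h
    have h1 : mk ⟨x, hKH hxK⟩ ∈ N := Subgroup.mem_map_of_mem mk (by
      rw [hK', Subgroup.mem_subgroupOf]; exact hxK)
    rw [h, Subgroup.mem_bot, hmk1] at h1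
    exact hxL h1
  obtain ⟨c, hcN, hcZ, hcp⟩ := exists_central_orderOf_eq hQ N hNne
  set Z : Subgroup (H ⧸ L') := Subgroup.zpowers c with hZ
  have hZcen : Z ≤ Subgroup.center (H ⧸ L') := (Subgroup.zpowers_le).mpr hcZ
  have hZN : Z ≤ N := (Subgroup.zpowers_le).mpr hcN
  have hZn : Z.Normal := ⟨fun z hz q => by
    have h1 := Subgroup.mem_center_iff.mp (hZcen hz) q
    have h2 : q * z * q⁻¹ = z := by rw [h1]; group
    rw [h2]; exact hz⟩
  set M' : Subgroup H := Z.comap mk with hM'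
  have hM'n : M'.Normal := Subgroup.Normal.comap hZn mk
  set M : Subgroup G := M'.map H.subtype with hM
  have hLM : L ≤ M := by
    intro l hl
    refine ⟨⟨l, hLH hl⟩, ?_, rfl⟩
    show mk ⟨l, hLH hl⟩ ∈ Z
    rw [(hmk1 ⟨l, hLH hl⟩).mpr hl]
    exact Z.one_mem
  have hMK : M ≤ K := by
    rintro m ⟨h, hh, rfl⟩
    have h1 : mk h ∈ N := hZN hh
    obtain ⟨k', hk', hkh⟩ := h1
    have h2 : mk (k'⁻¹ * h) = 1 := by rw [map_mul, map_inv, hkh]; group
    rw [hmk1] at h2
    have h3 : (k' : G) ∈ K := by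
      rw [hK'] at hk'; exact Subgroup.mem_subgroupOf.mp hk'
    have h4 : ((k'⁻¹ * h : H) : G) ∈ K := hLK.le h2
    have h5 : (h : G) = (k' : G) * ((k'⁻¹ * h : H) : G) := by
      push_cast; group
    show (h : G) ∈ K
    rw [h5]; exact K.mul_mem h3 h4
  have hMinv : ∀ h ∈ H, ∀ m ∈ M, h * m * h⁻¹ ∈ M := by
    rintro h hh m ⟨m', hm', rfl⟩
    exact ⟨⟨h, hh⟩ * m' * ⟨h, hh⟩⁻¹, hM'n.conj_mem m' hm' ⟨h, hh⟩, rfl⟩
  rcases hchief M hLM hMK hMinv with hML | hMK'
  · exfalso
    obtain ⟨h, rfl⟩ := hmks c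
    have h1 : (h : G) ∈ M := ⟨h, Subgroup.mem_zpowers (mk h), rfl⟩
    rw [hML] at h1
    have h2 := (hmk1 h).mpr h1
    rw [h2, orderOf_one] at hcp
    exact hp.one_lt.ne hcp
  · have h1 : L.relIndex K = L'.relIndex M' := by
      rw [← hMK', hL']
      have h2 : M' = M.subgroupOf H := by
        rw [hM, Subgroup.subgroupOf, Subgroup.comap_map_eq_self_of_injective H.subtype_injective]
      rw [h2, Subgroup.relIndex_subgroupOf (hMK.trans hKH)]
    have h3 : L' = (⊥ : Subgroup (H ⧸ L')).comap mk := by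
      rw [MonoidHom.comap_bot, hmk, QuotientGroup.ker_mk']
    have h4 : L'.relIndex M' = p := by
      conv_lhs => rw [h3]
      rw [Subgroup.relIndex_comap, hM', Subgroup.map_comap_eq_self_of_surjective hmks,
        Subgroup.relIndex_bot_left, hZ, Nat.card_zpowers, hcp]
    rw [h1, h4]
    exact hp.prime.not_isSquare

end Cfsg.Agent.Lib.Helper51.TC3CHIEFP
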