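import Mathlib
import Cfsg.Agent.Lib.Helper39.TLStmt

/-!
# S4404, piece PW3 (two reflections in a 3-group)

Proof by climbing the normalizer chain of the 3-group `R`, without orbit counting.
`[g, m]` stands for `g * m * g⁻¹ * m⁻¹`.

* (B) if `y` centralizes `W₁` then `x` centralizes `W₂` (the commutator of `x` and `y` acts
  trivially on `W₁` and on `M / W₁`, and has 3-power order, so it centralizes `M`).
* (C) if `y` normalizes a subgroup `W₁ ≠ W₂` of order 4 of `M`, it centralizes `W₁`.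
* (D) `x` cannot centralize both `y W₁ y⁻¹` and `y² W₁ y⁻²`.
-/

set_option autoImplicit false

namespace Cfsg.Agent.Lib.Helper51.TLPW3

open Cfsg Cfsg.Agent.Lib.Helper39.TLStmt

universe u

variable {S : Type u} [Group S]

theorem comm_of {M : Subgroup S} (hM : IsElementaryAbelian 2 M) {a b : S} (ha : a ∈ M)
    (hb : b ∈ M) : a * b = b * a := by
  have h := hM.1.is_comm.comm (⟨a, ha⟩ : M) ⟨b, hb⟩
  exact congrArg Subtype.val h

theorem refl_norm {M W : Subgroup S} {y : S} (h : IsRefl M y W) {w : S} (hw : w ∈ W) :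
    y * w * y⁻¹ ∈ W := by
  have := W.mul_mem (h.comm w (h.le hw)) hw
  rwa [inv_mul_cancel_right] at this

theorem refl_inv_comm {M W : Subgroup S} [hN : M.Normal] {y : S} (h : IsRefl M y W) {m : S}
    (hm : m ∈ M) : y⁻¹ * m * y * m⁻¹ ∈ W := by
  have hm' : y⁻¹ * m * y ∈ M := by
    have := hN.conj_mem m hm y⁻¹
    rwa [inv_inv] at this
  have h1 := W.inv_mem (h.comm _ hm')
  have e : (y * (y⁻¹ * m * y) * y⁻¹ * (y⁻¹ * m * y)⁻¹)⁻¹ = y⁻¹ * m * y * m⁻¹ := by group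
  rwa [e] at h1

theorem refl_norm_inv {M W : Subgroup S} [hN : M.Normal] {y : S} (h : IsRefl M y W) {w : S}
    (hw : w ∈ W) : y⁻¹ * w * y ∈ W := by
  have := W.mul_mem (refl_inv_comm h (h.le hw)) hw
  rwa [inv_mul_cancel_right] at this

theorem refl_surj [Finite S] {M W : Subgroup S} {y : S} (h : IsRefl M y W) {w : S}
    (hw : w ∈ W) : ∃ v ∈ W, w = y * v * y⁻¹ * v⁻¹ := by
  let f : W → W := fun v => ⟨y * v * y⁻¹ * (v : S)⁻¹, h.comm v (h.le v.2)⟩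
  have hinj : Function.Injective f := by
    intro a b hab
    have e : y * (a : S) * y⁻¹ * (a : S)⁻¹ = y * (b : S) * y⁻¹ * (b : S)⁻¹ :=
      congrArg Subtype.val hab
    have e2 : y * ((b : S)⁻¹ * a) * y⁻¹ = (b : S)⁻¹ * a := by
      have t : y * ((b : S)⁻¹ * a) * y⁻¹ =
          (y * b * y⁻¹)⁻¹ * (y * a * y⁻¹ * (a : S)⁻¹) * a := by group
      rw [t, e]; group
    have e3 := h.fix _ (W.mul_mem (W.inv_mem b.2) a.2) e2
    exact Subtype.ext (inv_mul_eq_one.1 e3).symm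
  obtain ⟨v, hv⟩ := Finite.surjective_of_injective hinj ⟨w, hw⟩
  exact ⟨v, v.2, (congrArg Subtype.val hv).symm⟩

/-- An element of 3-power order acting trivially on `W` and on `M / W` centralizes `M`. -/
theorem cent_of_chain {M W : Subgroup S} (hM : IsElementaryAbelian 2 M) (hW : W ≤ M) (c : S)
    (k : ℕ) (hc : c ^ 3 ^ k = 1) (h1 : ∀ m ∈ M, c * m * c⁻¹ * m⁻¹ ∈ W)
    (h2 : ∀ w ∈ W, c * w * c⁻¹ = w) {m : S} (hm : m ∈ M) : c * m * c⁻¹ = m := by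
  obtain ⟨a, ha⟩ : ∃ a, a = c * m * c⁻¹ * m⁻¹ := ⟨_, rfl⟩
  have haW : a ∈ W := by rw [ha]; exact h1 m hm
  have hcm : c * m * c⁻¹ = a * m := by rw [ha]; group
  have hpow : ∀ n : ℕ, c ^ n * m * (c ^ n)⁻¹ = a ^ n * m := by
    intro n
    induction n with
    | zero => simp
    | succ n ih =>
      have t1 : c ^ (n + 1) * m * (c ^ (n + 1))⁻¹ = c * (c ^ n * m * (c ^ n)⁻¹) * c⁻¹ := by
        rw [pow_succ']; group
      have t2 : c * (a ^ n * m) * c⁻¹ = (c * a * c⁻¹) ^ n * (c * m * c⁻¹) := by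
        rw [conj_pow]; group
      rw [t1, ih, t2, h2 a haW, hcm, pow_succ, mul_assoc]
  have h3 := hpow (3 ^ k)
  rw [hc, one_mul, inv_one, mul_one] at h3
  have h4 : a ^ 3 ^ k = 1 := by
    have : 1 * m = a ^ 3 ^ k * m := by rw [one_mul]; exact h3
    exact (mul_right_cancel this).symm
  have ha2 : a ^ 2 = 1 := hM.2 a (hW haW)
  obtain ⟨q, hq⟩ : Odd (3 ^ k) := Odd.pow (by decide)
  rw [hq, pow_succ, pow_mul, ha2, one_pow, one_mul] at h4
  rw [hcm, h4, one_mul]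

/-- (B) -/
theorem lemB [Finite S] {M : Subgroup S} [hN : M.Normal] (hM : IsElementaryAbelian 2 M)
    {x y : S} {W₁ W₂ : Subgroup S} (hx : IsRefl M x W₁) (hy : IsRefl M y W₂) (k : ℕ)
    (hc : (x * y * x⁻¹ * y⁻¹) ^ 3 ^ k = 1) (hcent : ∀ w ∈ W₁, y * w * y⁻¹ = w) :
    ∀ w ∈ W₂, x * w * x⁻¹ = w := by
  have hcent' : ∀ w ∈ W₁, y⁻¹ * w * y = w := by
    intro w hw
    have := hcent w hw
    calc y⁻¹ * w * y = y⁻¹ * (y * w * y⁻¹) * y := by rw [this]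
      _ = w := by group
  have h1 : ∀ m ∈ M, (x * y * x⁻¹ * y⁻¹) * m * (x * y * x⁻¹ * y⁻¹)⁻¹ * m⁻¹ ∈ W₁ := by
    intro m hm
    have hm1 : y⁻¹ * m * y ∈ M := by
      have := hN.conj_mem m hm y⁻¹
      rwa [inv_inv] at this
    have ha1 : x⁻¹ * (y⁻¹ * m * y) * x * (y⁻¹ * m * y)⁻¹ ∈ W₁ := refl_inv_comm hx hm1
    obtain ⟨a₁, ha₁⟩ : ∃ a₁, a₁ = x⁻¹ * (y⁻¹ * m * y) * x * (y⁻¹ * m * y)⁻¹ := ⟨_, rfl⟩
    rw [← ha₁] at ha1
    have e1 : (x * y * x⁻¹ * y⁻¹) * m * (x * y * x⁻¹ * y⁻¹)⁻¹ * m⁻¹ =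
        x * (y * a₁ * y⁻¹) * x⁻¹ * (x * m * x⁻¹ * m⁻¹) := by
      rw [ha₁]; group
    rw [e1, hcent a₁ ha1]
    exact W₁.mul_mem (refl_norm hx ha1) (hx.comm m hm)
  have h2 : ∀ w ∈ W₁, (x * y * x⁻¹ * y⁻¹) * w * (x * y * x⁻¹ * y⁻¹)⁻¹ = w := by
    intro w hw
    have hw' : x⁻¹ * w * x ∈ W₁ := refl_norm_inv hx hw
    calc (x * y * x⁻¹ * y⁻¹) * w * (x * y * x⁻¹ * y⁻¹)⁻¹
        = x * (y * (x⁻¹ * (y⁻¹ * w * y) * x) * y⁻¹) * x⁻¹ := by group
      _ = x * (y * (x⁻¹ * w * x) * y⁻¹) * x⁻¹ := by rw [hcent' w hw]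
      _ = x * (x⁻¹ * w * x) * x⁻¹ := by rw [hcent _ hw']
      _ = w := by group
  have hcM : ∀ m ∈ M, (x * y * x⁻¹ * y⁻¹) * m * (x * y * x⁻¹ * y⁻¹)⁻¹ = m :=
    fun m hm => cent_of_chain hM hx.le _ k hc h1 h2 hm
  have hfix : ∀ v ∈ M, x * (y * v * y⁻¹ * v⁻¹) * x⁻¹ = y * v * y⁻¹ * v⁻¹ := by
    intro v hv
    have hp : x * v * x⁻¹ ∈ M := hN.conj_mem v hv x
    have hq : y * v * y⁻¹ ∈ M := hN.conj_mem v hv y
    have hm : y * (x * v * x⁻¹) * y⁻¹ ∈ M := hN.conj_mem _ hp y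
    have e := hcM _ hm
    have e' : x * (y * v * y⁻¹) * x⁻¹ = y * (x * v * x⁻¹) * y⁻¹ := by
      rw [← e]; group
    have haW : x * v * x⁻¹ * v⁻¹ ∈ W₁ := hx.comm v hv
    have e2 : x * (y * v * y⁻¹ * v⁻¹) * x⁻¹ =
        (x * (y * v * y⁻¹) * x⁻¹) * (x * v * x⁻¹)⁻¹ := by group
    have e3 : y * (x * v * x⁻¹) * y⁻¹ =
        (y * (x * v * x⁻¹ * v⁻¹) * y⁻¹) * (y * v * y⁻¹) := by group
    rw [e2, e', e3, hcent _ haW]
    have c1 : x * v * x⁻¹ * (v⁻¹ * (y * v * y⁻¹)) = (v⁻¹ * (y * v * y⁻¹)) * (x * v * x⁻¹) :=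
      comm_of hM hp (M.mul_mem (M.inv_mem hv) hq)
    have c2 : v⁻¹ * (y * v * y⁻¹) = (y * v * y⁻¹) * v⁻¹ := comm_of hM (M.inv_mem hv) hq
    calc x * v * x⁻¹ * v⁻¹ * (y * v * y⁻¹) * (x * v * x⁻¹)⁻¹
        = (x * v * x⁻¹ * (v⁻¹ * (y * v * y⁻¹))) * (x * v * x⁻¹)⁻¹ := by group
      _ = v⁻¹ * (y * v * y⁻¹) := by rw [c1]; group
      _ = y * v * y⁻¹ * v⁻¹ := c2
  intro w hw
  obtain ⟨v, hv, rfl⟩ := refl_surj hy hw
  exact hfix v (hy.le hv)

/-- (C) -/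
theorem lemC [Finite S] {M : Subgroup S} {y : S} {W₁ W₂ : Subgroup S}
    (hy : IsRefl M y W₂) (hW₁ : W₁ ≤ M) (hcard : Nat.card W₁ = 4) (hne : W₁ ≠ W₂)
    (hnorm : ∀ w ∈ W₁, y * w * y⁻¹ ∈ W₁) : ∀ w ∈ W₁, y * w * y⁻¹ = w := by
  have hK4 : Nat.card ↥(W₁ ⊓ W₂) ≠ 4 := by
    intro h4
    have e1 : W₁ ⊓ W₂ = W₁ := Subgroup.eq_of_le_of_card_ge inf_le_left (by rw [h4, hcard])
    have e2 : W₁ ≤ W₂ := by rw [← e1]; exact inf_le_right
    exact hne (Subgroup.eq_of_le_of_card_ge e2 (by rw [hy.card, hcard]))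
  have hdvd : Nat.card ↥(W₁ ⊓ W₂) ∣ 2 ^ 2 := by
    have : Nat.card ↥(W₁ ⊓ W₂) ∣ Nat.card W₁ := Subgroup.card_dvd_of_le inf_le_left
    rw [hcard] at this
    exact this
  have hK2 : Nat.card ↥(W₁ ⊓ W₂) ≤ 2 := by
    obtain ⟨j, hj, e⟩ := (Nat.dvd_prime_pow Nat.prime_two).1 hdvd
    interval_cases j
    · rw [e]; norm_num
    · rw [e]; norm_num
    · exact absurd (by rw [e]; norm_num) hK4
  intro w hw
  have hu2 : y * w * y⁻¹ * w⁻¹ ∈ W₂ := hy.comm w (hW₁ hw)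
  have hu1 : y * w * y⁻¹ * w⁻¹ ∈ W₁ := W₁.mul_mem (hnorm w hw) (W₁.inv_mem hw)
  have hfixu : y * (y * w * y⁻¹ * w⁻¹) * y⁻¹ = y * w * y⁻¹ * w⁻¹ := by
    obtain ⟨u, hu_def⟩ : ∃ u, u = y * w * y⁻¹ * w⁻¹ := ⟨_, rfl⟩
    rw [← hu_def] at hu1 hu2 ⊢
    by_contra hcon
    by_cases hu : u = 1
    · apply hcon; rw [hu]; group
    · have hyu1 : y * u * y⁻¹ ∈ W₁ := hnorm u hu1
      have hyu2 : y * u * y⁻¹ ∈ W₂ := refl_norm hy hu2
      have hyu_ne : y * u * y⁻¹ ≠ 1 := by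
        intro h
        apply hu
        have t : u = y⁻¹ * (y * u * y⁻¹) * y := by group
        rw [t, h]; group
      have h3 : 2 < Nat.card ↥(W₁ ⊓ W₂) := by
        classical
        have : Fintype ↥(W₁ ⊓ W₂) := Fintype.ofFinite _
        rw [Nat.card_eq_fintype_card]
        have hc3 : ({(1 : ↥(W₁ ⊓ W₂)), ⟨u, Subgroup.mem_inf.2 ⟨hu1, hu2⟩⟩,
            ⟨y * u * y⁻¹, Subgroup.mem_inf.2 ⟨hyu1, hyu2⟩⟩} : Finset ↥(W₁ ⊓ W₂)).card = 3 := by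
          rw [Finset.card_insert_of_notMem, Finset.card_insert_of_notMem,
            Finset.card_singleton]
          · simp only [Finset.mem_singleton, Subtype.mk.injEq]
            exact fun h => hcon h.symm
          · simp only [Finset.mem_insert, Finset.mem_singleton, not_or]
            refine ⟨fun h => hu ?_, fun h => hyu_ne ?_⟩
            · exact (congrArg Subtype.val h).symm
            · exact (congrArg Subtype.val h).symm
        calc 2 < 3 := by norm_num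
          _ = _ := hc3.symm
          _ ≤ Fintype.card ↥(W₁ ⊓ W₂) := Finset.card_le_univ _
      omega
  have := hy.fix _ hu2 hfixu
  exact mul_inv_eq_one.1 this

/-- (D) -/
theorem lemD [Finite S] {M : Subgroup S} [hN : M.Normal] {x y : S} {W₁ W₂ : Subgroup S}
    (hx : IsRefl M x W₁) (hy : IsRefl M y W₂)
    (h1 : ∀ w ∈ W₁, x * (y * w * y⁻¹) * x⁻¹ = y * w * y⁻¹)
    (h2 : ∀ w ∈ W₁, x * (y * (y * w * y⁻¹) * y⁻¹) * x⁻¹ = y * (y * w * y⁻¹) * y⁻¹) :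
    False := by
  have hint : ∀ w ∈ W₁, ∀ w₀ ∈ W₁, w = y * w₀ * y⁻¹ → w = 1 := by
    intro w hw w₀ hw₀ e
    apply hx.fix w hw
    rw [e]; exact h1 w₀ hw₀
  let φ : W₁ → W₂ := fun w₀ => ⟨y * (y * w₀ * y⁻¹) * y⁻¹ * (y * w₀ * y⁻¹)⁻¹,
    hy.comm _ (hN.conj_mem _ (hx.le w₀.2) y)⟩
  have hinj : Function.Injective φ := by
    intro a b hab
    have e : y * (y * (a : S) * y⁻¹) * y⁻¹ * (y * (a : S) * y⁻¹)⁻¹ =
        y * (y * (b : S) * y⁻¹) * y⁻¹ * (y * (b : S) * y⁻¹)⁻¹ := congrArg Subtype.val hab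
    have e' : y * (y * (a : S) * y⁻¹) * y⁻¹ =
        (y * (y * (b : S) * y⁻¹) * y⁻¹ * (y * (b : S) * y⁻¹)⁻¹) * (y * (a : S) * y⁻¹) := by
      rw [← e]; group
    have e2 : y * ((b : S)⁻¹ * a) * y⁻¹ = (b : S)⁻¹ * a := by
      have t : y * ((b : S)⁻¹ * a) * y⁻¹ =
          y⁻¹ * ((y * (y * (b : S) * y⁻¹) * y⁻¹)⁻¹ * (y * (y * (a : S) * y⁻¹) * y⁻¹)) * y := by
        group
      rw [t, e']; group
    have hmem : (b : S)⁻¹ * a ∈ W₁ := W₁.mul_mem (W₁.inv_mem b.2) a.2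
    have e3 := hint _ hmem _ hmem e2.symm
    exact Subtype.ext (inv_mul_eq_one.1 e3).symm
  have hbij : Function.Bijective φ := hinj.bijective_of_nat_card_le (by rw [hx.card, hy.card])
  obtain ⟨w, hw, hw1⟩ : ∃ w ∈ W₁, w ≠ 1 := by
    rcases Subgroup.bot_or_exists_ne_one W₁ with h | h
    · exfalso
      have := hx.card
      rw [h, Subgroup.card_bot] at this
      omega
    · exact h
  obtain ⟨w₀, hw₀⟩ := hbij.2 ⟨y * w * y⁻¹ * w⁻¹, hy.comm w (hx.le hw)⟩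
  have e : y * (y * (w₀ : S) * y⁻¹) * y⁻¹ * (y * (w₀ : S) * y⁻¹)⁻¹ = y * w * y⁻¹ * w⁻¹ :=
    congrArg Subtype.val hw₀
  have e2 : w = (y * (w₀ : S) * y⁻¹) * (y * (y * (w₀ : S) * y⁻¹) * y⁻¹)⁻¹ * (y * w * y⁻¹) := by
    calc w = (y * w * y⁻¹ * w⁻¹)⁻¹ * (y * w * y⁻¹) := by group
      _ = (y * (y * (w₀ : S) * y⁻¹) * y⁻¹ * (y * (w₀ : S) * y⁻¹)⁻¹)⁻¹ * (y * w * y⁻¹) := by
          rw [e]
      _ = _ := by group
  have f1 := h1 w₀ w₀.2
  have f2 := h2 w₀ w₀.2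
  have f3 := h1 w hw
  have hxw : x * w * x⁻¹ = w := by
    calc x * w * x⁻¹ = x * ((y * (w₀ : S) * y⁻¹) * (y * (y * (w₀ : S) * y⁻¹) * y⁻¹)⁻¹ *
          (y * w * y⁻¹)) * x⁻¹ := by rw [← e2]
      _ = (x * (y * (w₀ : S) * y⁻¹) * x⁻¹) * (x * (y * (y * (w₀ : S) * y⁻¹) * y⁻¹) * x⁻¹)⁻¹ *
          (x * (y * w * y⁻¹) * x⁻¹) := by group
      _ = (y * (w₀ : S) * y⁻¹) * (y * (y * (w₀ : S) * y⁻¹) * y⁻¹)⁻¹ * (y * w * y⁻¹) := by
          rw [f1, f2, f3]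
      _ = w := e2.symm
  exact hw1 (hx.fix w hw hxw)

/-- The property climbing the normalizer chain. -/
def PP (M : Subgroup S) (x : S) (W₁ : Subgroup S) (K : Subgroup S) : Prop :=
  ∀ y' ∈ K, ∀ W' : Subgroup S, IsRefl M y' W' → W' ≠ W₁ → ∀ w ∈ W', x * w * x⁻¹ = w

theorem main (hConj : Conj.{u}) (_hCop : Cop.{u}) : PW3.{u} := by
  intro S _ _ M _ hM R hR x y W₁ W₂ hxR hyR hx hy hne
  have : Fact (Nat.Prime 3) := ⟨by norm_num⟩
  have hBC : ∀ y' ∈ R, ∀ W' : Subgroup S, IsRefl M y' W' → W' ≠ W₁ →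
      (∀ w ∈ W₁, y' * w * y'⁻¹ ∈ W₁) → ∀ w ∈ W', x * w * x⁻¹ = w := by
    intro y' hy'R W' hy' hW' hnorm
    have hcent := lemC hy' hx.le hx.card (Ne.symm hW') hnorm
    obtain ⟨k, hk⟩ := hR ⟨x * y' * x⁻¹ * y'⁻¹,
      R.mul_mem (R.mul_mem (R.mul_mem hxR hy'R) (R.inv_mem hxR)) (R.inv_mem hy'R)⟩
    have hk' : (x * y' * x⁻¹ * y'⁻¹) ^ 3 ^ k = 1 := by
      have := congrArg Subtype.val hk
      simpa using this
    exact lemB hM hx hy' k hk' hcent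
  have hstep : ∀ K : Subgroup S, K ≤ R → x ∈ K → PP M x W₁ K →
      PP M x W₁ (Subgroup.normalizer (K : Set S) ⊓ R) := by
    intro K hKR hxK hPK y' hy'K' W' hy' hW'
    obtain ⟨hy'N, hy'R⟩ := Subgroup.mem_inf.1 hy'K'
    have hx1K : y' * x * y'⁻¹ ∈ K := (Subgroup.mem_normalizer_iff.1 hy'N x).1 hxK
    have hx2K : y' * (y' * x * y'⁻¹) * y'⁻¹ ∈ K :=
      (Subgroup.mem_normalizer_iff.1 hy'N _).1 hx1K
    have hx1 := hConj S M x W₁ y' hx
    have hx2 := hConj S M (y' * x * y'⁻¹) _ y' hx1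
    have hmap1 : ∀ w ∈ W₁, y' * w * y'⁻¹ ∈ W₁.map (MulAut.conj y').toMonoidHom :=
      fun w hw => Subgroup.mem_map.2 ⟨w, hw, rfl⟩
    have hmap2 : ∀ w ∈ W₁, y' * (y' * w * y'⁻¹) * y'⁻¹ ∈
        (W₁.map (MulAut.conj y').toMonoidHom).map (MulAut.conj y').toMonoidHom :=
      fun w hw => Subgroup.mem_map.2 ⟨_, hmap1 w hw, rfl⟩
    by_cases hW1 : W₁.map (MulAut.conj y').toMonoidHom = W₁
    · apply hBC y' hy'R W' hy' hW'
      intro w hw
      have := hmap1 w hw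
      rwa [hW1] at this
    · exfalso
      have hW2 : (W₁.map (MulAut.conj y').toMonoidHom).map (MulAut.conj y').toMonoidHom ≠
          W₁ := by
        intro h
        apply hW1
        symm
        apply Subgroup.eq_of_le_of_card_ge
        · intro w hw
          have hcube : y' ^ 3 * w * (y' ^ 3)⁻¹ = w := by
            have := (Subgroup.mem_centralizer_iff.1 hy'.cube) w (hx.le hw)
            rw [← this]; group
          have hmem : y' * (y' * w * y'⁻¹) * y'⁻¹ ∈ W₁ := by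
            have := hmap2 w hw
            rwa [h] at this
          refine Subgroup.mem_map.2 ⟨y' * (y' * w * y'⁻¹) * y'⁻¹, hmem, ?_⟩
          show y' * (y' * (y' * w * y'⁻¹) * y'⁻¹) * y'⁻¹ = w
          calc y' * (y' * (y' * w * y'⁻¹) * y'⁻¹) * y'⁻¹ = y' ^ 3 * w * (y' ^ 3)⁻¹ := by
                rw [show y' ^ 3 = y' * (y' * y') from by rw [pow_succ', pow_two]]
                group
            _ = w := hcube
        · rw [hx1.card, hx.card]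
      have c1 := hPK _ hx1K _ hx1 hW1
      have c2 := hPK _ hx2K _ hx2 hW2
      exact lemD hx hy' (fun w hw => c1 _ (hmap1 w hw)) (fun w hw => c2 _ (hmap2 w hw))
  have hK0 : PP M x W₁ (Subgroup.normalizer (W₁ : Set S) ⊓ R) := by
    intro y' hy' W' hyr hW'
    obtain ⟨hy'N, hy'R⟩ := Subgroup.mem_inf.1 hy'
    exact hBC y' hy'R W' hyr hW' (fun w hw => (Subgroup.mem_normalizer_iff.1 hy'N w).1 hw)
  have hxK0 : x ∈ Subgroup.normalizer (W₁ : Set S) ⊓ R := by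
    refine Subgroup.mem_inf.2 ⟨Subgroup.mem_normalizer_iff.2
      (fun w => ⟨fun hw => refl_norm hx hw, fun hw => ?_⟩), hxR⟩
    have := refl_norm_inv hx hw
    have e : x⁻¹ * (x * w * x⁻¹) * x = w := by group
    rwa [e] at this
  obtain ⟨K, hK, hmax⟩ := Set.exists_max_image
    {K : Subgroup S | K ≤ R ∧ x ∈ K ∧ PP M x W₁ K} (fun K => Nat.card K) (Set.toFinite _)
    ⟨_, inf_le_right, hxK0, hK0⟩
  obtain ⟨hKR, hxK, hPK⟩ := hK
  have hKeq : K = R := by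
    by_contra hKne
    have : Group.IsNilpotent R := hR.isNilpotent
    have hlt : K.subgroupOf R < ⊤ := by
      rw [lt_top_iff_ne_top, Ne, Subgroup.subgroupOf_eq_top]
      exact fun h => hKne (le_antisymm hKR h)
    have hnc := Group.normalizerCondition_of_isNilpotent (G := R) (K.subgroupOf R) hlt
    obtain ⟨g, hgN, hgK⟩ := SetLike.exists_of_lt hnc
    have hgK' : (g : S) ∉ K := fun h => hgK (Subgroup.mem_subgroupOf.2 h)
    have hgN' : (g : S) ∈ Subgroup.normalizer (K : Set S) := by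
      rw [Subgroup.mem_normalizer_iff]
      intro k
      constructor
      · intro hk
        have := (Subgroup.mem_normalizer_iff.1 hgN ⟨k, hKR hk⟩).1 (Subgroup.mem_subgroupOf.2 hk)
        have := Subgroup.mem_subgroupOf.1 this
        simpa using this
      · intro hk
        have hkR : k ∈ R := by
          have h1 : (g : S)⁻¹ * ((g : S) * k * (g : S)⁻¹) * (g : S) ∈ R :=
            R.mul_mem (R.mul_mem (R.inv_mem g.2) (hKR hk)) g.2
          have e : (g : S)⁻¹ * ((g : S) * k * (g : S)⁻¹) * (g : S) = k := by group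
          rwa [e] at h1
        have := (Subgroup.mem_normalizer_iff.1 hgN ⟨k, hkR⟩).2
          (Subgroup.mem_subgroupOf.2 (by simpa using hk))
        exact Subgroup.mem_subgroupOf.1 this
    have hK'mem : (g : S) ∈ Subgroup.normalizer (K : Set S) ⊓ R := Subgroup.mem_inf.2 ⟨hgN', g.2⟩
    have hle : K ≤ Subgroup.normalizer (K : Set S) ⊓ R := le_inf Subgroup.le_normalizer hKR
    have hcard := hmax (Subgroup.normalizer (K : Set S) ⊓ R) ⟨inf_le_right, hle hxK, hstep K hKR hxK hPK⟩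
    have := Subgroup.eq_of_le_of_card_ge hle hcard
    exact hgK' (this ▸ hK'mem)
  rw [hKeq] at hPK
  exact hPK y hyR W₂ hy (Ne.symm hne)

end Cfsg.Agent.Lib.Helper51.TLPW3
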