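import Mathlib
import Cfsg.Agent.Lib.Helper56.TPStmt

/-!
# S3557 piece CENT: a nontrivial finite `p`-subgroup has a central element of order `p`.
-/

set_option autoImplicit false

namespace Cfsg.Agent.Lib.Helper51.TPCENT

open Cfsg.Agent.Lib.Helper56.TPStmt

universe u

theorem main : Cent.{u} := by
  intro G _ _ p _ P hP hPne
  have hnt : Nontrivial P := (Subgroup.nontrivial_iff_ne_bot P).mpr hPne
  have hcn : Nontrivial (Subgroup.center P) := hP.center_nontrivial
  obtain ⟨n, hn0, hn⟩ := (hP.to_subgroup (Subgroup.center P)).nontrivial_iff_card.mp hcn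
  have hpC : p ∣ Nat.card (Subgroup.center P) := by rw [hn]; exact dvd_pow_self p hn0.ne'
  obtain ⟨c, hc⟩ := exists_prime_orderOf_dvd_card' p hpC
  refine ⟨((c : P) : G), (c : P).2, ?_, ?_⟩
  · rw [Subgroup.orderOf_coe, Subgroup.orderOf_coe]; exact hc
  · intro h hh
    have h1 := Subgroup.mem_center_iff.mp c.2 ⟨h, hh⟩
    exact congrArg Subtype.val h1

end Cfsg.Agent.Lib.Helper51.TPCENT
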