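import Mathlib
import Cfsg.Agent.Lib.Helper56.TPStmt

/-!
# S3557 piece LNORMAL: a subgroup of index `1` or `p` of a finite `p`-group `P` is normalized
by `P`.
-/

set_option autoImplicit false

namespace Cfsg.Agent.Lib.Helper51.TPLNORMAL

open Cfsg.Agent.Lib.Helper56.TPStmt

universe u

theorem main : LNormal.{u} := by
  intro G _ _ p hp P L hP hLP hidx h hh l hl
  have hpp : p.Prime := hp.out
  have hnorm : (L.subgroupOf P).Normal := by
    rcases (Nat.dvd_prime hpp).mp hidx with h1 | h1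
    · have h2 : L.subgroupOf P = ⊤ := Subgroup.index_eq_one.mp h1
      rw [h2]; infer_instance
    · apply Subgroup.normal_of_index_eq_minFac_card
      obtain ⟨n, hn⟩ := hP.exists_card_eq
      have hn0 : n ≠ 0 := by
        rintro rfl
        rw [pow_zero] at hn
        have h3 : (L.subgroupOf P).index ∣ Nat.card P := Subgroup.index_dvd_card _
        have h4 : (L.subgroupOf P).index = p := h1
        rw [h4, hn] at h3
        exact hpp.one_lt.ne' (Nat.dvd_one.mp h3)
      rw [hn, hpp.pow_minFac hn0]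
      exact h1
  have h5 : (⟨h, hh⟩ : P) * ⟨l, hLP hl⟩ * (⟨h, hh⟩ : P)⁻¹ ∈ L.subgroupOf P :=
    hnorm.conj_mem ⟨l, hLP hl⟩ (Subgroup.mem_subgroupOf.mpr hl) ⟨h, hh⟩
  exact Subgroup.mem_subgroupOf.mp h5

end Cfsg.Agent.Lib.Helper51.TPLNORMAL
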